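import Cfsg.Agent.Lib.Coset.Cover

/-! # The permutations of a coset table and their orbits -/

set_option autoImplicit false

namespace Cfsg.Agent.Lib.Coset

namespace Tab

variable (P : Tab)

/-- A word applied to a point, acting from the left. -/
noncomputable def app (w : List ℕ) : ℕ → ℕ :=
  List.rec (motive := fun _ => ℕ → ℕ) (fun i => i) (fun g _ ih i => P.act g (ih i)) w

/-- Every column is an involution of the points in a range. -/
noncomputable def invOK (lo len : ℕ) : Bool :=
  (List.range len).all fun k => (List.range P.gens).all fun g =>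
    decide (P.act g (lo + k) < P.size) && Nat.beq (P.act g (P.act g (lo + k))) (lo + k)

/-- The words fix the points in a range. -/
noncomputable def relOK (ws : List (List ℕ)) (lo len : ℕ) : Bool :=
  (List.range len).all fun k => ws.all fun w => Nat.beq (P.app w (lo + k)) (lo + k)

/-- The columns are involutions. -/
def Good : Prop := ∀ i < P.size, ∀ g < P.gens, P.act g i < P.size ∧ P.act g (P.act g i) = i

/-- The permutation of a generator. -/
noncomputable def perm (h : P.Good) (g : ℕ) : Equiv.Perm (Fin P.size) :=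
  if hg : g < P.gens then
    { toFun := fun i => ⟨P.act g i, (h i i.2 g hg).1⟩
      invFun := fun i => ⟨P.act g i, (h i i.2 g hg).1⟩
      left_inv := fun i => Fin.ext (h i i.2 g hg).2
      right_inv := fun i => Fin.ext (h i i.2 g hg).2 }
  else 1

variable {P}

theorem good_of_invOK {B : ℕ}
    (h : ∀ k, k * B < P.size → P.invOK (k * B) (min B (P.size - k * B)) = true) (hB : 0 < B) :
    P.Good := by
  intro i hi g hg
  have hk : i / B * B ≤ i := Nat.div_mul_le_self i B
  have hm : i % B < B := Nat.mod_lt _ hB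
  have hd := Nat.div_add_mod' i B
  have := h (i / B) (by omega)
  simp only [invOK, List.all_eq_true, List.mem_range, Bool.and_eq_true, decide_eq_true_eq,
    Nat.beq_eq] at this
  have := this (i % B) (lt_min hm (by omega)) g hg
  rwa [hd] at this

theorem relOK_spec {B : ℕ} (hB : 0 < B) {ws : List (List ℕ)}
    (h : ∀ k, k * B < P.size → P.relOK ws (k * B) (min B (P.size - k * B)) = true) :
    ∀ i < P.size, ∀ w ∈ ws, P.app w i = i := by
  intro i hi w hw
  have hk : i / B * B ≤ i := Nat.div_mul_le_self i B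
  have hm : i % B < B := Nat.mod_lt _ hB
  have hd := Nat.div_add_mod' i B
  have := h (i / B) (by omega)
  simp only [relOK, List.all_eq_true, List.mem_range, Nat.beq_eq] at this
  have := this (i % B) (lt_min hm (by omega)) w hw
  rwa [hd] at this

theorem perm_mul_self (h : P.Good) (g : ℕ) : P.perm h g * P.perm h g = 1 := by
  rw [perm]
  split_ifs with hg
  · ext i
    exact congrArg (fun j : ℕ => j) (h i i.2 g hg).2
  · exact one_mul 1

theorem ev_perm_apply (h : P.Good) : ∀ (w : List ℕ), (∀ g ∈ w, g < P.gens) → ∀ i : Fin P.size,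
    ((ev (P.perm h) w i : Fin P.size) : ℕ) = P.app w i
  | [], _, i => rfl
  | g :: w, hw, i => by
    rw [ev_cons, Equiv.Perm.mul_apply,
      show P.app (g :: w) i = P.act g (P.app w i) from rfl, ← ev_perm_apply h w (fun a ha => hw a
      (List.mem_cons_of_mem _ ha)) i, perm, dif_pos (hw g (by simp))]
    rfl

theorem ev_perm_eq_one (h : P.Good) {w : List ℕ} (hw : ∀ g ∈ w, g < P.gens)
    (hfix : ∀ i < P.size, P.app w i = i) : ev (P.perm h) w = 1 :=
  Equiv.ext fun i => Fin.ext ((ev_perm_apply h w hw i).trans (hfix i i.2))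

/-- One step of an orbit: a point seen, the number of a word, the new point. -/
abbrev Step := ℕ × ℕ × ℕ

/-- Grows the mask of the points seen. -/
noncomputable def grow (ws : List (List ℕ)) : List Step → ℕ → Option ℕ
  | [], m => some m
  | (q, k, r) :: ss, m =>
    if m.testBit q && k < ws.length && P.app (ws.getD k []) q == r && r < P.size &&
        !(m.testBit r) then
      grow ws ss (m ||| 1 <<< r)
    else none

/-- The orbit given by steps from a base point. -/
noncomputable def orbitOK (ws : List (List ℕ)) (b : ℕ) (ss : List Step) : Bool :=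
  b < P.size && ws.all (fun w => w.all (· < P.gens)) && (P.grow ws ss (1 <<< b)).isSome

/-- The points of an orbit given by steps. -/
def pts (b : ℕ) (ss : List Step) : List ℕ := b :: ss.map fun s => s.2.2

/-- The orbit is closed under the words. -/
noncomputable def closedOK (ws : List (List ℕ)) (b : ℕ) (ss : List Step) : Bool :=
  match P.grow ws ss (1 <<< b) with
  | none => false
  | some m => (pts b ss).all fun q => ws.all fun w => m.testBit (P.app w q)

theorem grow_spec (h : P.Good) {K : Subgroup (Equiv.Perm (Fin P.size))} {ws : List (List ℕ)}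
    (hw : ∀ w ∈ ws, ∀ g ∈ w, g < P.gens) (hK : ∀ w ∈ ws, ev (P.perm h) w ∈ K) (b : Fin P.size) :
    ∀ (ss : List Step) (m m' : ℕ) (S : Finset (Fin P.size)),
      (∀ q, m.testBit q = true ↔ ∃ x ∈ S, (x : ℕ) = q) →
      (∀ x ∈ S, x ∈ MulAction.orbit K b) → P.grow ws ss m = some m' →
      ∃ S' : Finset (Fin P.size), S'.card = S.card + ss.length ∧
        (∀ q, m'.testBit q = true ↔ ∃ x ∈ S', (x : ℕ) = q) ∧
        (∀ x ∈ S', x ∈ MulAction.orbit K b) ∧
        (∀ q, (∃ x ∈ S', (x : ℕ) = q) ↔ (∃ x ∈ S, (x : ℕ) = q) ∨ q ∈ ss.map fun s => s.2.2)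
  | [], m, m', S, hm, ho, hg => by
    simp only [grow, Option.some.injEq] at hg
    subst hg
    exact ⟨S, by simp, hm, ho, fun q => by simp⟩
  | (q, k, r) :: ss, m, m', S, hm, ho, hg => by
    rw [grow] at hg
    split_ifs at hg with hc
    simp only [Bool.and_eq_true, decide_eq_true_eq, beq_iff_eq, Bool.not_eq_true'] at hc
    obtain ⟨⟨⟨⟨hq, hk⟩, hr⟩, hlt⟩, hnew⟩ := hc
    obtain ⟨x, hx, rfl⟩ := (hm q).1 hq
    have hwm : ws.getD k [] ∈ ws := by
      rw [List.getD_eq_getElem _ _ hk]; exact List.getElem_mem _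
    let y : Fin P.size := ⟨r, hlt⟩
    have hy : y ∈ MulAction.orbit K b := by
      obtain ⟨u, hu⟩ := ho x hx
      refine ⟨⟨_, hK _ hwm⟩ * u, ?_⟩
      show (⟨_, hK _ hwm⟩ * u) • b = y
      rw [mul_smul, show u • b = x from hu]
      exact Fin.ext ((ev_perm_apply h _ (hw _ hwm) x).trans hr)
    have hyS : y ∉ S := fun hyS => by
      have := (hm r).2 ⟨y, hyS, rfl⟩
      rw [hnew] at this
      exact Bool.false_ne_true this
    have hm2 : ∀ q', (m ||| 1 <<< r).testBit q' = true ↔
        ∃ z ∈ insert y S, (z : ℕ) = q' := by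
      intro q'
      rw [Nat.testBit_or, Bool.or_eq_true, Nat.one_shiftLeft, Nat.testBit_two_pow, hm q']
      simp only [decide_eq_true_eq, Finset.mem_insert, exists_eq_or_imp]
      exact or_comm
    obtain ⟨S', h1, h2, h3, h4⟩ := grow_spec h hw hK b ss _ m' _ hm2 (fun z hz => by
      rcases Finset.mem_insert.1 hz with rfl | hz
      · exact hy
      · exact ho z hz) hg
    refine ⟨S', ?_, h2, h3, fun q' => ?_⟩
    · rw [h1, Finset.card_insert_of_notMem hyS, List.length_cons]; omega
    · rw [h4 q']
      simp only [Finset.mem_insert, exists_eq_or_imp, List.map_cons, List.mem_cons]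
      constructor
      · rintro ((h' | h') | h')
        · exact Or.inr (Or.inl h'.symm)
        · exact Or.inl h'
        · exact Or.inr (Or.inr h')
      · rintro (h' | h' | h')
        · exact Or.inl (Or.inr h')
        · exact Or.inl (Or.inl h'.symm)
        · exact Or.inr h'

/-- An orbit certificate gives at least that many points. -/
theorem orbit_spec (h : P.Good) {K : Subgroup (Equiv.Perm (Fin P.size))} {ws : List (List ℕ)}
    {b : ℕ} {ss : List Step} (hok : P.orbitOK ws b ss = true)
    (hK : ∀ w ∈ ws, ev (P.perm h) w ∈ K) (hb : b < P.size) :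
    ∃ S : Finset (Fin P.size), S.card = ss.length + 1 ∧
      (∀ x ∈ S, x ∈ MulAction.orbit K (⟨b, hb⟩ : Fin P.size)) ∧
      ∀ q, (∃ x ∈ S, (x : ℕ) = q) ↔ q ∈ pts b ss := by
  simp only [orbitOK, Bool.and_eq_true, decide_eq_true_eq, List.all_eq_true] at hok
  obtain ⟨⟨-, hw⟩, hg⟩ := hok
  obtain ⟨m', hm'⟩ := Option.isSome_iff_exists.1 hg
  obtain ⟨S, h1, -, h3, h4⟩ := grow_spec h hw hK ⟨b, hb⟩ ss _ m' {⟨b, hb⟩} (fun q => by
    rw [Nat.one_shiftLeft, Nat.testBit_two_pow]; simp) (fun x hx => by
    rw [Finset.mem_singleton.1 hx]; exact MulAction.mem_orbit_self _) hm'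
  refine ⟨S, by rw [h1]; simp; omega, h3, fun q => ?_⟩
  rw [h4 q]
  simp [pts, eq_comm]

/-- A level of a chain of orbits: base point, words, steps. -/
abbrev Level := ℕ × List (List ℕ) × List Step

/-- A chain of orbits: the words of the later levels fix the earlier base points. -/
noncomputable def chainOK : List Level → Bool
  | [] => true
  | (b, ws, ss) :: rest =>
    P.orbitOK ws b ss && rest.all (fun l => l.2.1.all fun w => P.app w b == b) && chainOK rest

/-- The number of elements guaranteed by a chain. -/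
def chainCard : List Level → ℕ
  | [] => 1
  | (_, _, ss) :: rest => (ss.length + 1) * chainCard rest

theorem chain_spec (h : P.Good) : ∀ {L : List Level} {K : Subgroup (Equiv.Perm (Fin P.size))},
    P.chainOK L = true → (∀ l ∈ L, ∀ w ∈ l.2.1, ev (P.perm h) w ∈ K) → chainCard L ≤ Nat.card K
  | [], K, _, _ => Nat.one_le_iff_ne_zero.2 Nat.card_pos.ne'
  | (b, ws, ss) :: rest, K, hok, hK => by
    simp only [chainOK, Bool.and_eq_true, List.all_eq_true, beq_iff_eq] at hok
    obtain ⟨⟨ho, hfix⟩, hrest⟩ := hok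
    have hb : b < P.size := by
      simp only [orbitOK, Bool.and_eq_true, decide_eq_true_eq] at ho; exact ho.1.1
    have hlet : ∀ {R : List Level}, P.chainOK R = true → ∀ l ∈ R, ∀ w ∈ l.2.1, ∀ g ∈ w,
        g < P.gens := by
      intro R
      induction R with
      | nil => simp
      | cons a R ih =>
        obtain ⟨b', ws', ss'⟩ := a
        intro hR l hl w hw g hg
        simp only [chainOK, Bool.and_eq_true] at hR
        rcases List.mem_cons.1 hl with rfl | hl
        · have := hR.1.1
          simp only [orbitOK, Bool.and_eq_true, List.all_eq_true, decide_eq_true_eq] at this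
          exact this.1.2 w hw g hg
        · exact ih hR.2 l hl w hw g hg
    obtain ⟨S, hS, horb, -⟩ := orbit_spec h ho (hK (b, ws, ss) (by simp)) hb
    let x0 : Fin P.size := ⟨b, hb⟩
    have hmul : (MulAction.orbit K x0).ncard * Nat.card (MulAction.stabilizer K x0) = Nat.card K := by
      rw [← Nat.card_coe_set_eq, Nat.card_congr (MulAction.orbitEquivQuotientStabilizer K x0)]
      exact Subgroup.index_mul_card _
    have hle : chainCard rest ≤ Nat.card (MulAction.stabilizer K x0) := by
      rw [← Subgroup.card_map_of_injective K.subtype_injective]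
      refine chain_spec h hrest fun l hl w hw => ?_
      refine ⟨⟨_, hK l (List.mem_cons_of_mem _ hl) w hw⟩, ?_, rfl⟩
      exact Fin.ext ((ev_perm_apply h w (hlet hrest l hl w hw) x0).trans (hfix l hl w hw))
    rw [chainCard, ← hmul]
    refine Nat.mul_le_mul ?_ hle
    rw [← hS, ← Set.ncard_coe_finset]
    exact Set.ncard_le_ncard (fun x hx => horb x hx) (Set.toFinite _)

/-- An orbit certificate with closure gives the exact orbit. -/
theorem orbit_eq (h : P.Good) {K : Subgroup (Equiv.Perm (Fin P.size))} {ws : List (List ℕ)}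
    {b : ℕ} {ss : List Step} (hok : P.orbitOK ws b ss = true) (hcl : P.closedOK ws b ss = true)
    (hKeq : K = Subgroup.closure (ev (P.perm h) '' {w | w ∈ ws})) (hb : b < P.size) :
    (MulAction.orbit K (⟨b, hb⟩ : Fin P.size)).ncard = ss.length + 1 ∧
      ∀ x : Fin P.size, x ∈ MulAction.orbit K (⟨b, hb⟩ : Fin P.size) ↔ (x : ℕ) ∈ pts b ss := by
  have hK : ∀ w ∈ ws, ev (P.perm h) w ∈ K := fun w hw =>
    hKeq ▸ Subgroup.subset_closure ⟨w, hw, rfl⟩
  obtain ⟨S, hS, horb, hmem⟩ := orbit_spec h hok hK hb
  have hw : ∀ w ∈ ws, ∀ g ∈ w, g < P.gens := by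
    simp only [orbitOK, Bool.and_eq_true, decide_eq_true_eq, List.all_eq_true] at hok
    exact hok.1.2
  have hin : ∀ x : Fin P.size, x ∈ S ↔ (x : ℕ) ∈ pts b ss := fun x =>
    ⟨fun hx => (hmem x).1 ⟨x, hx, rfl⟩, fun hx => by
      obtain ⟨y, hy, he⟩ := (hmem x).2 hx
      rwa [← Fin.ext he]⟩
  cases hg : P.grow ws ss (1 <<< b) with
  | none => rw [closedOK, hg] at hcl; simp at hcl
  | some m =>
    rw [closedOK, hg] at hcl
    simp only [List.all_eq_true] at hcl
    obtain ⟨S2, -, hm, -, h4⟩ := grow_spec h hw hK ⟨b, hb⟩ ss _ m {⟨b, hb⟩} (fun q => by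
      rw [Nat.one_shiftLeft, Nat.testBit_two_pow]; simp) (fun x hx => by
      rw [Finset.mem_singleton.1 hx]; exact MulAction.mem_orbit_self _) hg
    have hstep : ∀ w ∈ ws, ∀ x ∈ S, ev (P.perm h) w x ∈ S := by
      intro w hw' x hx
      rw [hin]
      have := (hm _).1 (hcl x ((hin x).1 hx) w hw')
      obtain ⟨y, hy, he⟩ := this
      have h5 := (h4 (y : ℕ)).1 ⟨y, hy, rfl⟩
      rw [ev_perm_apply h w (hw w hw') x, ← he]
      simpa [pts, eq_comm] using h5
    have hclosed : ∀ u ∈ K, ∀ x ∈ S, u x ∈ S := by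
      intro u hu
      rw [hKeq, ← Subgroup.mem_toSubmonoid, Subgroup.closure_toSubmonoid_of_finite] at hu
      induction hu using Submonoid.closure_induction with
      | mem u hu => obtain ⟨w, hw', rfl⟩ := hu; exact hstep w hw'
      | one => exact fun x hx => hx
      | mul u v _ _ hu hv => exact fun x hx => hu _ (hv x hx)
    have heq : MulAction.orbit K (⟨b, hb⟩ : Fin P.size) = (S : Set (Fin P.size)) := by
      refine Set.Subset.antisymm ?_ fun x hx => horb x hx
      rintro x ⟨⟨u, hu⟩, rfl⟩
      exact hclosed u hu _ ((hin _).2 (List.mem_cons_self ..))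
    exact ⟨by rw [heq, Set.ncard_coe_finset, hS], fun x => by rw [heq]; exact hin x⟩

end Tab

end Cfsg.Agent.Lib.Coset
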