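import Cfsg.Agent.Lib.Coset.Group

/-! # Orbits given by packed trees, for checking in ranges -/

set_option autoImplicit false

namespace Cfsg.Agent.Lib.Coset

/-- An orbit: its points in order, for each the earlier point and the word leading to it, and the
position of each point. -/
structure BigOrbit where
  /-- The number of points. -/
  len : ℕ
  /-- The points. -/
  ptS : Store
  /-- For each point, an earlier position times sixteen plus the number of a word. -/
  parS : Store
  /-- The position of each point. -/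
  posS : Store

namespace BigOrbit

variable (O : BigOrbit)

/-- The point in a position. -/
noncomputable def pt (j : ℕ) : ℕ := nodeOf O.ptS j

/-- The position of a point. -/
noncomputable def pos (x : ℕ) : ℕ := nodeOf O.posS x

/-- Whether a point is in the orbit. -/
noncomputable def has (x : ℕ) : Bool := decide (O.pos x < O.len) && Nat.beq (O.pt (O.pos x)) x

/-- Checks the positions in a range. -/
noncomputable def rangeOK (P : Tab) (ws : List (List ℕ)) (lo n : ℕ) : Bool :=
  (List.range n).all fun d =>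
    decide (O.pt (lo + d) < P.size) && Nat.beq (O.pos (O.pt (lo + d))) (lo + d) &&
      (Nat.beq (lo + d) 0 || (decide (nodeOf O.parS (lo + d) / 16 < lo + d) &&
        decide (nodeOf O.parS (lo + d) % 16 < ws.length) &&
        Nat.beq (P.app (ws.getD (nodeOf O.parS (lo + d) % 16) []) (O.pt (nodeOf O.parS (lo + d) / 16)))
          (O.pt (lo + d)))) &&
      ws.all fun w => O.has (P.app w (O.pt (lo + d)))

variable {O}

theorem orbit_eq {P : Tab} (h : P.Good) {ws : List (List ℕ)}
    (hws : ws.all (fun w => w.all (· < P.gens)) = true) {B : ℕ} (hB : 0 < B)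
    (hok : ∀ k, k * B < O.len → O.rangeOK P ws (k * B) (min B (O.len - k * B)) = true)
    {K : Subgroup (Equiv.Perm (Fin P.size))}
    (hKeq : K = Subgroup.closure (ev (P.perm h) '' {w | w ∈ ws})) (hlen : 0 < O.len)
    (b : Fin P.size) (hb : (b : ℕ) = O.pt 0) :
    (MulAction.orbit K b).ncard = O.len ∧
      ∀ x : Fin P.size, x ∈ MulAction.orbit K b ↔ O.has x = true := by
  have hall : ∀ j < O.len, O.pt j < P.size ∧ O.pos (O.pt j) = j ∧
      (j = 0 ∨ (nodeOf O.parS j / 16 < j ∧ nodeOf O.parS j % 16 < ws.length ∧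
        P.app (ws.getD (nodeOf O.parS j % 16) []) (O.pt (nodeOf O.parS j / 16)) = O.pt j)) ∧
      ∀ w ∈ ws, O.has (P.app w (O.pt j)) = true := by
    intro j hj
    have hk : j / B * B ≤ j := Nat.div_mul_le_self j B
    have hm : j % B < B := Nat.mod_lt _ hB
    have hd := Nat.div_add_mod' j B
    have := hok (j / B) (by omega)
    simp only [rangeOK, List.all_eq_true, List.mem_range] at this
    have := this (j % B) (lt_min hm (by omega))
    rw [hd] at this
    simp only [Bool.and_eq_true, Bool.or_eq_true, decide_eq_true_eq, Nat.beq_eq,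
      List.all_eq_true] at this
    exact ⟨this.1.1.1, this.1.1.2, this.1.2.imp_right fun t => ⟨t.1.1, t.1.2, t.2⟩, this.2⟩
  simp only [List.all_eq_true, decide_eq_true_eq] at hws
  have hK : ∀ w ∈ ws, ev (P.perm h) w ∈ K := fun w hw =>
    hKeq ▸ Subgroup.subset_closure ⟨w, hw, rfl⟩
  let S : Set (Fin P.size) := {x | O.has x = true}
  have hin : ∀ j (hj : j < O.len), (⟨O.pt j, (hall j hj).1⟩ : Fin P.size) ∈ MulAction.orbit K b := by
    intro j
    induction j using Nat.strong_induction_on with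
    | _ j ih =>
      intro hj
      rcases (hall j hj).2.2.1 with h0 | ⟨hlt, hk, happ⟩
      · subst h0
        rw [show (⟨O.pt 0, (hall 0 hj).1⟩ : Fin P.size) = b from Fin.ext hb.symm]
        exact MulAction.mem_orbit_self _
      · have hj' := hlt.trans hj
        obtain ⟨u, hu⟩ := ih _ hlt hj'
        have hw : ws.getD (nodeOf O.parS j % 16) [] ∈ ws := by
          rw [List.getD_eq_getElem _ _ hk]; exact List.getElem_mem _
        refine ⟨⟨_, hK _ hw⟩ * u, ?_⟩
        show ((⟨_, hK _ hw⟩ : K) * u) • b = _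
        rw [mul_smul, show u • b = (⟨O.pt _, (hall _ hj').1⟩ : Fin P.size) from hu]
        exact Fin.ext ((Tab.ev_perm_apply h _ (hws _ hw) _).trans happ)
  have hmem : ∀ x : Fin P.size, O.has x = true → x ∈ MulAction.orbit K b := by
    intro x hx
    simp only [has, Bool.and_eq_true, decide_eq_true_eq, Nat.beq_eq] at hx
    have := hin _ hx.1
    rwa [show (⟨O.pt (O.pos x), (hall _ hx.1).1⟩ : Fin P.size) = x from Fin.ext hx.2] at this
  have hb0 : O.has b = true := by
    rw [has, hb, (hall 0 hlen).2.1]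
    simp [hlen]
  have hclosed : ∀ u ∈ K, ∀ x : Fin P.size, O.has x = true → O.has (u x) = true := by
    intro u hu
    rw [hKeq, ← Subgroup.mem_toSubmonoid, Subgroup.closure_toSubmonoid_of_finite] at hu
    induction hu using Submonoid.closure_induction with
    | mem u hu =>
      obtain ⟨w, hw, rfl⟩ := hu
      intro x hx
      simp only [has, Bool.and_eq_true, decide_eq_true_eq, Nat.beq_eq] at hx
      have := (hall _ hx.1).2.2.2 w hw
      rw [hx.2] at this
      rwa [Tab.ev_perm_apply h w (hws w hw) x]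
    | one => exact fun x hx => hx
    | mul u v _ _ hu hv => exact fun x hx => hu _ (hv x hx)
  have hiff : ∀ x : Fin P.size, x ∈ MulAction.orbit K b ↔ O.has x = true := fun x =>
    ⟨fun ⟨⟨u, hu⟩, he⟩ => he ▸ hclosed u hu b hb0, hmem x⟩
  refine ⟨?_, hiff⟩
  have himg : MulAction.orbit K b =
      Set.range (fun j : Fin O.len => (⟨O.pt j, (hall j j.2).1⟩ : Fin P.size)) := by
    ext x
    rw [hiff]
    constructor
    · intro hx
      simp only [has, Bool.and_eq_true, decide_eq_true_eq, Nat.beq_eq] at hx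
      exact ⟨⟨_, hx.1⟩, Fin.ext hx.2⟩
    · rintro ⟨j, rfl⟩
      simp [has, (hall j j.2).2.1]
  rw [himg, ← Nat.card_coe_set_eq, Nat.card_range_of_injective, Nat.card_fin]
  intro i j hij
  have := congrArg (fun q : Fin P.size => O.pos q) hij
  rw [(hall i i.2).2.1, (hall j j.2).2.1] at this
  exact Fin.ext this

end BigOrbit

namespace Rep

/-- With two orbits of the subgroup besides the first point, whose sizes plus one do not divide the
degree, every nontrivial normal subgroup is a supplement. -/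
theorem sup_eq_top_two {Γ : Type*} [Group Γ] {P : Tab} (R : Rep Γ P)
    (hinj : Function.Injective R.ρ) {x y : Fin P.size} {m n : ℕ}
    (hx : (MulAction.orbit (R.K.map R.ρ) x).ncard = m)
    (hy : (MulAction.orbit (R.K.map R.ρ) y).ncard = n)
    (hxz : R.z ∉ MulAction.orbit (R.K.map R.ρ) x) (hyz : R.z ∉ MulAction.orbit (R.K.map R.ρ) y)
    (hxy : y ∉ MulAction.orbit (R.K.map R.ρ) x) (hsum : m + n + 1 = P.size)
    (hm : ¬ m + 1 ∣ P.size) (hn : ¬ n + 1 ∣ P.size)
    (N : Subgroup Γ) [hN : N.Normal] (hne : N ≠ ⊥) : R.K ⊔ N = ⊤ := by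
  classical
  set Ox := MulAction.orbit (R.K.map R.ρ) x with hOx
  set Oy := MulAction.orbit (R.K.map R.ρ) y with hOy
  set B : Set (Fin P.size) := MulAction.orbit (N.map R.ρ) R.z with hB
  have hinv : ∀ k ∈ R.K, ∀ p ∈ B, R.ρ k p ∈ B := by
    intro k hk p hp
    obtain ⟨⟨_, g, hg, rfl⟩, rfl⟩ := hp
    refine ⟨⟨R.ρ (k * g * k⁻¹), _, hN.conj_mem g hg k, rfl⟩, ?_⟩
    show R.ρ (k * g * k⁻¹) R.z = R.ρ k (R.ρ g R.z)
    rw [map_mul, map_mul, Equiv.Perm.mul_apply, Equiv.Perm.mul_apply,
      (R.mem_iff _).1 (R.K.inv_mem hk)]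
  have hfull : ∀ q, (MulAction.orbit (R.K.map R.ρ) q ∩ B).Nonempty →
      MulAction.orbit (R.K.map R.ρ) q ⊆ B := by
    rintro q ⟨p, hpq, hpB⟩ r hr
    rw [← MulAction.orbit_eq_iff.2 hpq] at hr
    obtain ⟨⟨_, k, hk, rfl⟩, rfl⟩ := hr
    exact hinv k hk p hpB
  have hdisj : Disjoint Ox Oy := Set.disjoint_left.2 fun p hp hp' => hxy (by
    rw [hOx, ← MulAction.orbit_eq_iff.2 hp, MulAction.orbit_eq_iff.2 hp']
    exact MulAction.mem_orbit_self _)
  have huniv : insert R.z (Ox ∪ Oy) = Set.univ := by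
    refine (Set.eq_univ_iff_ncard _).2 ?_
    rw [Set.ncard_insert_of_notMem (fun h => h.elim hxz hyz) (Set.toFinite _),
      Set.ncard_union_eq hdisj, hx, hy, hsum, Nat.card_fin]
  have hz : R.z ∈ B := MulAction.mem_orbit_self _
  -- the size of the block is an index
  have hrel : B.ncard = R.K.relIndex (N ⊔ R.K) := by
    have e : Nat.card (MulAction.orbit ((N ⊔ R.K).map R.ρ) R.z) =
        (MulAction.stabilizer ((N ⊔ R.K).map R.ρ) R.z).index :=
      Nat.card_congr (MulAction.orbitEquivQuotientStabilizer _ _)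
    have hcomap : MulAction.stabilizer ((N ⊔ R.K).map R.ρ) R.z =
        (R.K.map R.ρ).subgroupOf ((N ⊔ R.K).map R.ρ) := by
      ext ⟨u, g, hg, rfl⟩
      show R.ρ g R.z = R.z ↔ R.ρ g ∈ R.K.map R.ρ
      rw [← R.mem_iff, Subgroup.mem_map]
      exact ⟨fun h => ⟨g, h, rfl⟩, fun ⟨k, hk, he⟩ => hinj he ▸ hk⟩
    rw [hcomap] at e
    have e2 : ((R.K.map R.ρ).subgroupOf ((N ⊔ R.K).map R.ρ)).index = R.K.relIndex (N ⊔ R.K) :=
      Subgroup.relIndex_map_map_of_injective R.K (N ⊔ R.K) hinj
    rw [← e2, ← e, Nat.card_coe_set_eq]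
    congr 1
    ext p
    constructor
    · rintro ⟨⟨_, g, hg, rfl⟩, rfl⟩
      exact ⟨⟨R.ρ g, g, Subgroup.mem_sup_left hg, rfl⟩, rfl⟩
    · rintro ⟨⟨_, g, hg, rfl⟩, rfl⟩
      obtain ⟨g₁, h₁, k, hk, rfl⟩ := Subgroup.mem_sup_of_normal_left.1 hg
      refine ⟨⟨R.ρ g₁, g₁, h₁, rfl⟩, ?_⟩
      show R.ρ g₁ R.z = R.ρ (g₁ * k) R.z
      rw [map_mul, Equiv.Perm.mul_apply, (R.mem_iff k).1 hk]
  have hmul : R.K.relIndex (N ⊔ R.K) * (R.K ⊔ N).index = R.K.index := by
    rw [sup_comm R.K N]
    exact Subgroup.relIndex_mul_index le_sup_right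
  have hdvd : B.ncard ∣ P.size := ⟨_, by rw [hrel, hmul, R.index_eq]⟩
  have hone : B ≠ {R.z} := by
    intro h
    refine hne ((Subgroup.eq_bot_iff_forall N).2 fun g hg => hinj ?_)
    rw [map_one]
    refine Equiv.ext fun p => ?_
    obtain ⟨t, rfl⟩ := R.transitive p
    have h2 : R.ρ (t⁻¹ * g * t) R.z = R.z := by
      have : R.ρ (t⁻¹ * g * t) R.z ∈ B :=
        ⟨⟨R.ρ (t⁻¹ * g * t), _, by simpa using hN.conj_mem g hg t⁻¹, rfl⟩, rfl⟩
      rw [h] at this
      exact this
    rw [Equiv.Perm.one_apply, ← Equiv.Perm.mul_apply, ← map_mul,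
      show g * t = t * (t⁻¹ * g * t) by group, map_mul, Equiv.Perm.mul_apply, h2]
  have hcov : ∀ p, p = R.z ∨ p ∈ Ox ∨ p ∈ Oy := fun p => by
    have : p ∈ insert R.z (Ox ∪ Oy) := huniv ▸ Set.mem_univ p
    simpa using this
  have hsize : B.ncard = P.size := by
    by_cases hX : (Ox ∩ B).Nonempty
    · have hxB := hfull x hX
      by_cases hY : (Oy ∩ B).Nonempty
      · have hyB := hfull y hY
        have : B = Set.univ := Set.eq_univ_of_forall fun p => by
          rcases hcov p with rfl | h | h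
          exacts [hz, hxB h, hyB h]
        rw [this, Set.ncard_univ, Nat.card_fin]
      · have hBeq : B = insert R.z Ox := by
          refine Set.Subset.antisymm (fun p hp => ?_) (Set.insert_subset hz hxB)
          rcases hcov p with rfl | h | h
          exacts [Or.inl rfl, Or.inr h, absurd ⟨p, h, hp⟩ hY]
        rw [hBeq, Set.ncard_insert_of_notMem hxz (Set.toFinite _), hx] at hdvd
        exact absurd hdvd hm
    · by_cases hY : (Oy ∩ B).Nonempty
      · have hBeq : B = insert R.z Oy := by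
          refine Set.Subset.antisymm (fun p hp => ?_) (Set.insert_subset hz (hfull y hY))
          rcases hcov p with rfl | h | h
          exacts [Or.inl rfl, absurd ⟨p, h, hp⟩ hX, Or.inr h]
        rw [hBeq, Set.ncard_insert_of_notMem hyz (Set.toFinite _), hy] at hdvd
        exact absurd hdvd hn
      · refine absurd (Set.Subset.antisymm (fun p hp => ?_) (Set.singleton_subset_iff.2 hz)) hone
        rcases hcov p with rfl | h | h
        exacts [rfl, absurd ⟨p, h, hp⟩ hX, absurd ⟨p, h, hp⟩ hY]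
  rw [← Subgroup.index_eq_one]
  rw [hrel] at hsize
  rw [hsize, R.index_eq] at hmul
  exact (Nat.mul_eq_left (by have := R.pos; omega)).1 hmul

/-- The order of the image is the degree times a lower bound for a subgroup fixing the first point. -/
theorem card_range_ge {Γ : Type*} [Group Γ] {P : Tab} (R : Rep Γ P) {M : ℕ}
    (hM : M ≤ Nat.card (MulAction.stabilizer R.ρ.range R.z)) :
    P.size * M ≤ Nat.card R.ρ.range := by
  rw [← Subgroup.index_mul_card (MulAction.stabilizer R.ρ.range R.z)]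
  refine Nat.mul_le_mul (le_of_eq ?_) hM
  haveI : MulAction.IsPretransitive R.ρ.range (Fin P.size) := ⟨fun p q => by
    obtain ⟨g, rfl⟩ := R.transitive p
    obtain ⟨k, rfl⟩ := R.transitive q
    refine ⟨⟨R.ρ (k * g⁻¹), _, rfl⟩, ?_⟩
    show R.ρ (k * g⁻¹) (R.ρ g R.z) = R.ρ k R.z
    rw [← Equiv.Perm.mul_apply, ← map_mul, inv_mul_cancel_right]⟩
  rw [MulAction.index_stabilizer_of_transitive, Nat.card_fin]

end Rep

end Cfsg.Agent.Lib.Coset
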