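import Cfsg.Agent.Lib.Coset.Cox

/-! # Assembling certificates -/

set_option autoImplicit false

namespace Cfsg.Agent.Lib.Coset

variable {Γ : Type} [Group Γ]

/-- The letters of the words are below a bound. -/
def lettersBelow (k : ℕ) (ws : List (List ℕ)) : Bool := ws.all fun w => w.all fun a => decide (a < k)

theorem mem_closure_letters {φ : ℕ → Γ} {k : ℕ} {ws : List (List ℕ)} (h : lettersBelow k ws = true) :
    ∀ w ∈ ws, ev φ w ∈ Subgroup.closure (φ '' Set.Iio k) := by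
  intro w hw
  simp only [lettersBelow, List.all_eq_true, decide_eq_true_eq] at h
  exact ev_mem_closure φ fun a ha => Subgroup.subset_closure ⟨a, h w hw a ha, rfl⟩

theorem model_of {C : Cert} {φ : ℕ → Γ} {K : Subgroup Γ} (hφ : ∀ k, φ k * φ k = 1)
    {base : List (List ℕ)} (hb : ∀ w ∈ base, ev φ w = 1)
    (hr : C.rels.all (isRot base) = true) (hs : ∀ s ∈ C.subs, ev φ s ∈ K) : Cert.Model C φ K :=
  ⟨fun g _ => hφ g, fun _ hr' => ev_rot hb (List.all_eq_true.1 hr _ hr'), hs⟩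

theorem card_step {φ : ℕ → Γ} {k k' n M : ℕ} {p : ℕ → Γ}
    (hK : (Subgroup.closure (φ '' Set.Iio k') : Set Γ).Finite ∧
      Nat.card (Subgroup.closure (φ '' Set.Iio k')) ≤ M)
    (h : ∀ x ∈ Subgroup.closure (φ '' Set.Iio k),
      ∃ i < n, x * (p i)⁻¹ ∈ Subgroup.closure (φ '' Set.Iio k')) :
    (Subgroup.closure (φ '' Set.Iio k) : Set Γ).Finite ∧
      Nat.card (Subgroup.closure (φ '' Set.Iio k)) ≤ n * M :=
  ⟨(card_le_of_cover hK.1 h).1, (card_le_of_cover hK.1 h).2.trans (Nat.mul_le_mul le_rfl hK.2)⟩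

theorem card_bot (φ : ℕ → Γ) :
    (Subgroup.closure (φ '' Set.Iio 0) : Set Γ).Finite ∧
      Nat.card (Subgroup.closure (φ '' Set.Iio 0)) ≤ 1 := by
  have h : Subgroup.closure (φ '' Set.Iio 0) = ⊥ := by
    rw [show Set.Iio 0 = (∅ : Set ℕ) by ext; simp, Set.image_empty, Subgroup.closure_empty]
  rw [h]
  exact ⟨by simp, by simp⟩

/-- The subgroup generated by words. -/
def wordSub (φ : ℕ → Γ) (ws : List (List ℕ)) : Subgroup Γ := Subgroup.closure (ev φ '' {w | w ∈ ws})

theorem map_wordSub {Δ : Type*} [Group Δ] (f : Γ →* Δ) (φ : ℕ → Γ) (σ : ℕ → Δ) {n : ℕ}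
    (hσ : ∀ g < n, f (φ g) = σ g) {ws : List (List ℕ)} (hws : lettersBelow n ws = true) :
    (wordSub φ ws).map f = Subgroup.closure (ev σ '' {w | w ∈ ws}) := by
  simp only [lettersBelow, List.all_eq_true, decide_eq_true_eq] at hws
  rw [wordSub, MonoidHom.map_closure]
  refine congrArg _ ?_
  rw [← Set.image_comp]
  refine Set.image_congr fun w hw => ?_
  show f (ev φ w) = ev σ w
  rw [ev_comp, ev, ev, List.map_congr_left (f := ⇑f ∘ φ) (g := σ) fun a ha => hσ a (hws w hw a ha)]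

/-- A certified table together with the action gives a representation. -/
noncomputable def mkRep (P : Tab) (C : Cert) (ord : Store) (φ : ℕ → Γ) (K : Subgroup Γ) (ρ : Γ →* Equiv.Perm (Fin P.size))
    (good : P.Good) (ρφ : ∀ g < P.gens, ρ (φ g) = P.perm good g) (pos : 0 < P.size)
    (gen : Subgroup.closure (φ '' Set.Iio P.gens) = ⊤) (h0 : nodeOf ord 0 = 0)
    (he : ∀ e < P.size * P.gens, C.EdgeHolds φ K P ord (e / P.gens) (e % P.gens))
    (hcov : ∀ x ∈ Subgroup.closure (φ '' Set.Iio P.gens),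
      ∃ i < P.size, x * (C.pt φ (nodeOf ord i))⁻¹ ∈ K)
    (back : P.backOK = true) (fix : ∀ k ∈ K, ρ k ⟨0, pos⟩ = ⟨0, pos⟩) : Rep Γ P where
  φ := φ
  K := K
  good := good
  ρ := ρ
  ρφ := ρφ
  p := fun i => C.pt φ (nodeOf ord i)
  pos := pos
  gen := gen
  p_zero := by rw [h0, C.pt_zero]
  edge := fun i hi g hg => by
    have hlt : g + P.gens * i < P.size * P.gens := by nlinarith
    have h := (he _ hlt).2
    rwa [Nat.add_mul_div_left _ _ (by omega), Nat.div_eq_of_lt hg, zero_add,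
      Nat.add_mul_mod_self_left, Nat.mod_eq_of_lt hg] at h
  cover := fun x => hcov x (gen ▸ Subgroup.mem_top x)
  back := back
  fix := fix

/-- The words fix the first point. -/
theorem fix_of {P : Tab} {hP : P.Good} {φ : ℕ → Γ} {ρ : Γ →* Equiv.Perm (Fin P.size)}
    (ρφ : ∀ g < P.gens, ρ (φ g) = P.perm hP g) (pos : 0 < P.size) {ws : List (List ℕ)}
    (hws : lettersBelow P.gens ws = true) (hfix : ws.all (fun w => P.app w 0 == 0) = true)
    {K : Subgroup Γ} (hK : K ≤ wordSub φ ws) :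
    ∀ k ∈ K, ρ k (⟨0, pos⟩ : Fin P.size) = ⟨0, pos⟩ := by
  intro k hk
  have hk' := Subgroup.mem_map_of_mem ρ (hK hk)
  rw [map_wordSub ρ φ (P.perm hP) ρφ hws] at hk'
  simp only [lettersBelow, List.all_eq_true, decide_eq_true_eq] at hws
  simp only [List.all_eq_true, beq_iff_eq] at hfix
  have hle : Subgroup.closure (ev (P.perm hP) '' {w | w ∈ ws}) ≤
      MulAction.stabilizer (Equiv.Perm (Fin P.size)) (⟨0, pos⟩ : Fin P.size) :=
    (Subgroup.closure_le _).2 fun _ ⟨w, hw, he⟩ => he ▸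
      Fin.ext ((Tab.ev_perm_apply hP w (hws w hw) _).trans (hfix w hw))
  exact hle hk'

theorem closure_letters_le (φ : ℕ → Γ) {k : ℕ} {ws : List (List ℕ)}
    (h : (List.range k).all (fun a => ws.contains [a]) = true) :
    Subgroup.closure (φ '' Set.Iio k) ≤ wordSub φ ws := by
  simp only [List.all_eq_true, List.mem_range, List.contains_iff_mem] at h
  refine Subgroup.closure_mono ?_
  rintro _ ⟨a, ha, rfl⟩
  exact ⟨[a], h a ha, by simp [ev]⟩

theorem wordSub_le_closure (φ : ℕ → Γ) {k : ℕ} {ws : List (List ℕ)} (h : lettersBelow k ws = true) :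
    wordSub φ ws ≤ Subgroup.closure (φ '' Set.Iio k) :=
  (Subgroup.closure_le _).2 fun _ ⟨w, hw, he⟩ => he ▸ mem_closure_letters h w hw

/-- A word fixing every point is trivial when the action is faithful. -/
theorem ev_eq_one_of_fix {P : Tab} {hP : P.Good} {φ : ℕ → Γ} {ρ : Γ →* Equiv.Perm (Fin P.size)}
    (ρφ : ∀ g < P.gens, ρ (φ g) = P.perm hP g) (hinj : Function.Injective ρ) {w : List ℕ}
    (hw : ∀ a ∈ w, a < P.gens) (hfix : ∀ i < P.size, P.app w i = i) : ev φ w = 1 := by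
  refine hinj ?_
  rw [map_one, ev_comp, ev,
    List.map_congr_left (f := ⇑ρ ∘ φ) (g := P.perm hP) fun a ha => ρφ a (hw a ha)]
  exact Tab.ev_perm_eq_one hP hw hfix

/-- The witness word: half the order of a product of two conjugates of `x`. -/
def witWord (x u : List ℕ) (flip : Bool) (k : ℕ) : List ℕ :=
  rep k (x ++ (u ++ ((if flip then x.reverse else x) ++ u.reverse)))

theorem witWord_mem {φ : ℕ → Γ} (hφ : ∀ k, φ k * φ k = 1) {N : Subgroup Γ} [hN : N.Normal]
    {x u : List ℕ} {flip : Bool} {k : ℕ} (hx : ev φ x ∈ N) : ev φ (witWord x u flip k) ∈ N := by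
  rw [witWord, ev_rep, ev_append, ev_append, ev_append, ev_reverse φ u fun a _ => hφ a]
  refine N.pow_mem (N.mul_mem hx ?_) k
  rw [← mul_assoc]
  refine hN.conj_mem _ ?_ _
  cases flip
  · simpa using hx
  · simp only [if_true, ev_reverse φ x fun a _ => hφ a]
    exact N.inv_mem hx

/-- A generator conjugate to a witness word lies in every normal subgroup with `x`. -/
theorem gen_mem {φ : ℕ → Γ} (hφ : ∀ k, φ k * φ k = 1) {N : Subgroup Γ} [hN : N.Normal]
    {z g : List ℕ} {s : ℕ} (hz : ev φ z ∈ N) (h : ev φ (g.reverse ++ (z ++ (g ++ [s]))) = 1) :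
    φ s ∈ N := by
  rw [ev_append, ev_append, ev_append, ev_cons, ev_nil, mul_one,
    ev_reverse φ g fun a _ => hφ a] at h
  have hs : φ s = ((ev φ g)⁻¹ * ev φ z * ev φ g)⁻¹ := by
    rw [eq_inv_iff_mul_eq_one]
    exact mul_eq_one_comm.1 (by rw [← h]; simp only [mul_assoc])
  rw [hs]
  refine N.inv_mem ?_
  simpa using hN.conj_mem _ hz (ev φ g)⁻¹

end Cfsg.Agent.Lib.Coset
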