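import Cfsg.Agent.Lib.Coset.Words

/-!
# Checker for coset enumeration certificates

A certificate lists facts `(a, g, b)`, meaning that the cosets of `pt a * φ g` and of `pt b`
agree (`g = gens` stands for no letter). Each fact is a definition or is derived from earlier facts
along a closed path reading a relator, or a generator of the subgroup when the path starts at node zero.
-/

set_option autoImplicit false

namespace Cfsg.Agent.Lib.Coset

/-- A certificate. -/
structure Cert where
  /-- The number of generators. -/
  gens : ℕ
  /-- The number of facts. -/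
  nfacts : ℕ
  /-- The relators used, each a rotation of one of the given relators. -/
  rels : List (List ℕ)
  /-- The words of the subgroup. -/
  subs : List (List ℕ)
  /-- Facts, packed in blocks of 64 fields of 44 bits. -/
  facts : Store
  /-- The defining fact of each node, packed in blocks of 64 fields of 20 bits. -/
  defs : Store

namespace Cert

variable (C : Cert)

/-- A packed fact. -/
noncomputable def fact (i : ℕ) : ℕ := field (C.facts.get (Nat.div i 64)) 44 (Nat.mod i 64)

/-- The first node of a fact. -/
noncomputable def src (i : ℕ) : ℕ := Nat.mod (C.fact i) 1048576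

/-- The second node of a fact. -/
noncomputable def tgt (i : ℕ) : ℕ := Nat.mod (Nat.shiftRight (C.fact i) 20) 1048576

/-- The letter of a fact. -/
noncomputable def lab (i : ℕ) : ℕ := Nat.shiftRight (C.fact i) 40

/-- The defining fact of a node. -/
noncomputable def defOf (y : ℕ) : ℕ := field (C.defs.get (Nat.div y 64)) 20 (Nat.mod y 64)

/-- Crosses fact `i` from node `cur`: the node reached and the letters read. -/
noncomputable def cross (i cur : ℕ) : Option (ℕ × List ℕ) :=
  cond (Nat.beq cur (C.src i)) (some (C.tgt i, cond (Nat.blt (C.lab i) C.gens) [C.lab i] []))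
    (cond (Nat.beq cur (C.tgt i)) (some (C.src i, cond (Nat.blt (C.lab i) C.gens) [C.lab i] [])) none)

/-- Reads a list of earlier facts from a node; written with the recursor, for kernel evaluation. -/
noncomputable def walk (bound cur : ℕ) (is : List ℕ) : Option (ℕ × List ℕ) :=
  List.rec (motive := fun _ => ℕ → Option (ℕ × List ℕ)) (fun c => some (c, []))
    (fun i _ ih c => cond (Nat.blt i bound)
      (Option.rec none (fun p => Option.rec none (fun q => some (q.1, p.2 ++ q.2)) (ih p.1))
        (C.cross i c)) none) is cur

theorem walk_nil (bound cur : ℕ) : C.walk bound cur [] = some (cur, []) := rfl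

theorem walk_cons (bound cur i : ℕ) (is : List ℕ) : C.walk bound cur (i :: is) =
    cond (Nat.blt i bound) (Option.rec none (fun p =>
      Option.rec none (fun q => some (q.1, p.2 ++ q.2)) (C.walk bound p.1 is)) (C.cross i cur)) none :=
  rfl

/-- Decodes fields of 20 bits, stopping at zero; each is shifted down by one. -/
noncomputable def decode (fuel X : ℕ) : List ℕ :=
  Nat.rec (motive := fun _ => ℕ → List ℕ) (fun _ => [])
    (fun _ ih Y => cond (Nat.beq Y 0) []
      (Nat.sub (Nat.mod Y 1048576) 1 :: ih (Nat.shiftRight Y 20))) fuel X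

/-- Checks one derivation: two paths around the fact. -/
noncomputable def derivOK (i : ℕ) (sub : Bool) (r c : ℕ) (pre suf : List ℕ) : Bool :=
  match C.walk i c pre with
  | none => false
  | some (x, u) =>
    match C.cross i x with
    | none => false
    | some (y, s) =>
      match C.walk i y suf with
      | none => false
      | some (z, v) =>
        z == c &&
          if sub then c == 0 && r < C.subs.length && u ++ (s ++ v) == C.subs.getD r []
          else r < C.rels.length && u ++ (s ++ v) == C.rels.getD r []

/-- Checks fact `i` against its packed proof; zero stands for a definition. -/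
noncomputable def factOK (i : ℕ) (pr : ℕ) : Bool :=
  if pr == 0 then
    C.lab i < C.gens && C.src i < C.tgt i && C.defOf (C.tgt i) == i
  else
    let split := decode 4000 (pr >>> 52)
    C.derivOK i (pr % 2 == 1) ((pr >>> 1) % 2 ^ 20) ((pr >>> 22) % 2 ^ 20)
      (split.take ((pr >>> 42) % 2 ^ 10)) (split.drop ((pr >>> 42) % 2 ^ 10))

/-- Checks a block of packed proofs starting at fact `start`. -/
noncomputable def blockOK (start : ℕ) (ps : List ℕ) : Bool :=
  List.rec (motive := fun _ => ℕ → Bool) (fun _ => true)
    (fun p _ ih i => C.factOK i p && ih (Nat.succ i)) ps start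

theorem blockOK_cons (i p : ℕ) (ps : List ℕ) :
    C.blockOK i (p :: ps) = (C.factOK i p && C.blockOK (i + 1) ps) := rfl

variable {Γ : Type*} [Group Γ] (φ : ℕ → Γ)

/-- The representative of a node. -/
noncomputable def ptAux : ℕ → ℕ → Γ
  | 0, _ => 1
  | fuel + 1, y =>
    if C.src (C.defOf y) < y then ptAux fuel (C.src (C.defOf y)) * φ (C.lab (C.defOf y)) else 1

/-- The representative of a node. -/
noncomputable def pt (y : ℕ) : Γ := C.ptAux φ y y

theorem ptAux_congr : ∀ f f' y, y ≤ f → y ≤ f' → C.ptAux φ f y = C.ptAux φ f' y := by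
  intro f
  induction f with
  | zero =>
    intro f' y h h'
    have hy : y = 0 := by omega
    subst hy
    cases f' <;> simp [ptAux]
  | succ f ih =>
    intro f' y h h'
    cases f' with
    | zero =>
      have hy : y = 0 := by omega
      subst hy
      simp [ptAux]
    | succ f' =>
      simp only [ptAux]
      split_ifs with hlt
      · rw [ih f' _ (by omega) (by omega)]
      · rfl

theorem pt_zero : C.pt φ 0 = 1 := rfl

theorem pt_def {i : ℕ} (hlt : C.src i < C.tgt i) (hd : C.defOf (C.tgt i) = i) :
    C.pt φ (C.tgt i) = C.pt φ (C.src i) * φ (C.lab i) := by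
  rw [pt, C.ptAux_congr φ (C.tgt i) (C.tgt i + 1) _ le_rfl (by omega), ptAux, hd, if_pos hlt,
    pt, C.ptAux_congr φ (C.tgt i) (C.src i) _ hlt.le le_rfl]

/-- The meaning of a fact. -/
def Holds (K : Subgroup Γ) (i : ℕ) : Prop :=
  C.pt φ (C.src i) * (if C.lab i < C.gens then φ (C.lab i) else 1) * (C.pt φ (C.tgt i))⁻¹ ∈ K

variable {K : Subgroup Γ} {C φ}

theorem cross_cases {i cur x : ℕ} {u : List ℕ} (h : C.cross i cur = some (x, u)) :
    ((cur = C.src i ∧ x = C.tgt i) ∨ (cur = C.tgt i ∧ x = C.src i)) ∧
      ev φ u = if C.lab i < C.gens then φ (C.lab i) else 1 := by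
  have hu : ev φ (cond (Nat.blt (C.lab i) C.gens) [C.lab i] []) =
      if C.lab i < C.gens then φ (C.lab i) else 1 := by
    by_cases hl : C.lab i < C.gens
    · rw [if_pos hl, (Iff.of_eq Nat.blt_eq).2 hl]; simp [ev]
    · rw [if_neg hl, Bool.eq_false_iff.2 fun e => hl ((Iff.of_eq Nat.blt_eq).1 e)]; simp [ev]
  rw [cross] at h
  generalize (cond (Nat.blt (C.lab i) C.gens) [C.lab i] []) = out at h hu
  cases h1 : Nat.beq cur (C.src i) <;> rw [h1] at h <;> simp only [cond_true, cond_false] at h
  · cases h2 : Nat.beq cur (C.tgt i) <;> rw [h2] at h <;> simp only [cond_true, cond_false] at h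
    · simp at h
    · simp only [Option.some.injEq, Prod.mk.injEq] at h
      exact ⟨Or.inr ⟨Nat.eq_of_beq_eq_true h2, h.1.symm⟩, h.2 ▸ hu⟩
  · simp only [Option.some.injEq, Prod.mk.injEq] at h
    exact ⟨Or.inl ⟨Nat.eq_of_beq_eq_true h1, h.1.symm⟩, h.2 ▸ hu⟩

theorem cross_holds_iff (hinv : ∀ g < C.gens, φ g * φ g = 1) {i cur x : ℕ} {u : List ℕ}
    (h : C.cross i cur = some (x, u)) :
    C.pt φ cur * ev φ u * (C.pt φ x)⁻¹ ∈ K ↔ C.Holds φ K i := by
  obtain ⟨hd, hu⟩ := cross_cases (φ := φ) h
  rw [hu, Holds]
  rcases hd with ⟨rfl, rfl⟩ | ⟨rfl, rfl⟩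
  · exact Iff.rfl
  · have he : (if C.lab i < C.gens then φ (C.lab i) else 1)⁻¹ =
        if C.lab i < C.gens then φ (C.lab i) else 1 := by
      split_ifs with hg
      · exact inv_eq_of_mul_eq_one_right (hinv _ hg)
      · exact inv_one
    conv_lhs => rw [← K.inv_mem_iff, mul_inv_rev, inv_inv, mul_inv_rev, he, ← mul_assoc]

theorem walk_spec (hinv : ∀ g < C.gens, φ g * φ g = 1) {bound : ℕ}
    (hh : ∀ j < bound, C.Holds φ K j) : ∀ {is : List ℕ} {cur x : ℕ} {u : List ℕ},
    C.walk bound cur is = some (x, u) → C.pt φ cur * ev φ u * (C.pt φ x)⁻¹ ∈ K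
  | [], cur, x, u, h => by
    simp only [walk_nil, Option.some.injEq, Prod.mk.injEq] at h
    obtain ⟨rfl, rfl⟩ := h
    simp [ev_nil]
  | i :: is, cur, x, u, h => by
    rw [walk_cons] at h
    cases hb : Nat.blt i bound with
    | false => rw [hb] at h; simp at h
    | true =>
      rw [hb, cond_true] at h
      cases hc : C.cross i cur with
      | none => rw [hc] at h; simp at h
      | some p =>
        obtain ⟨y, a⟩ := p
        rw [hc] at h
        simp only at h
        cases hw : C.walk bound y is with
        | none => rw [hw] at h; simp at h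
        | some q =>
          obtain ⟨z, b⟩ := q
          rw [hw] at h
          simp only [Option.some.injEq, Prod.mk.injEq] at h
          obtain ⟨rfl, rfl⟩ := h
          have := K.mul_mem ((cross_holds_iff hinv hc).2 (hh i ((Iff.of_eq Nat.blt_eq).1 hb)))
            (walk_spec hinv hh hw)
          rw [ev_append]
          convert this using 1
          group

/-- The assumptions on a group for a certificate. -/
structure Model (C : Cert) (φ : ℕ → Γ) (K : Subgroup Γ) : Prop where
  inv : ∀ g < C.gens, φ g * φ g = 1
  rels : ∀ r ∈ C.rels, ev φ r = 1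
  subs : ∀ s ∈ C.subs, ev φ s ∈ K

theorem deriv_spec (M : Model C φ K) {i : ℕ} (hh : ∀ j < i, C.Holds φ K j) {sub : Bool} {r c : ℕ}
    {pre suf : List ℕ} (h : C.derivOK i sub r c pre suf = true) : C.Holds φ K i := by
  rw [derivOK] at h
  cases hp : C.walk i c pre with
  | none => rw [hp] at h; simp at h
  | some p =>
    obtain ⟨x, u⟩ := p
    rw [hp] at h
    simp only at h
    cases hc : C.cross i x with
    | none => rw [hc] at h; simp at h
    | some q =>
      obtain ⟨y, s⟩ := q
      rw [hc] at h
      simp only at h
      cases hs : C.walk i y suf with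
      | none => rw [hs] at h; simp at h
      | some t =>
        obtain ⟨z, v⟩ := t
        rw [hs] at h
        simp only [Bool.and_eq_true, beq_iff_eq] at h
        obtain ⟨rfl, hw⟩ := h
        have hzero : C.pt φ z * ev φ (u ++ (s ++ v)) * (C.pt φ z)⁻¹ ∈ K := by
          cases sub
          · simp only [Bool.false_eq_true, if_false, Bool.and_eq_true, decide_eq_true_eq,
              beq_iff_eq] at hw
            rw [hw.2, List.getD_eq_getElem _ _ hw.1, M.rels _ (List.getElem_mem _)]
            simp
          · simp only [if_true, Bool.and_eq_true, decide_eq_true_eq, beq_iff_eq] at hw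
            obtain ⟨⟨hz, hr⟩, hu'⟩ := hw
            subst hz
            rw [hu', List.getD_eq_getElem _ _ hr, C.pt_zero]
            simpa using M.subs _ (List.getElem_mem _)
        have hA := walk_spec M.inv hh hp
        have hB := walk_spec M.inv hh hs
        have key : C.pt φ x * ev φ s * (C.pt φ y)⁻¹ ∈ K := by
          have := K.mul_mem (K.mul_mem (K.inv_mem hA) hzero) (K.inv_mem hB)
          rw [ev_append, ev_append] at this
          convert this using 1
          group
        exact (cross_holds_iff M.inv hc).1 key

theorem fact_spec (M : Model C φ K) {i pr : ℕ} (hh : ∀ j < i, C.Holds φ K j)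
    (h : C.factOK i pr = true) : C.Holds φ K i := by
  rw [factOK] at h
  split_ifs at h with h0
  · simp only [Bool.and_eq_true, decide_eq_true_eq, beq_iff_eq] at h
    rw [Holds, if_pos h.1.1, C.pt_def φ h.1.2 h.2]
    simp
  · exact deriv_spec M hh h

theorem blockOK_spec (M : Model C φ K) : ∀ {ps : List ℕ} {start : ℕ},
    (∀ j < start, C.Holds φ K j) → C.blockOK start ps = true →
    ∀ j < start + ps.length, C.Holds φ K j
  | [], start, hh, _ => by simpa using hh
  | p :: ps, start, hh, h => by
    rw [blockOK_cons, Bool.and_eq_true] at h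
    have h1 : ∀ j < start + 1, C.Holds φ K j := fun j hj => by
      rcases Nat.lt_succ_iff_lt_or_eq.1 hj with hj | rfl
      · exact hh j hj
      · exact fact_spec M hh h.1
    intro j hj
    exact blockOK_spec M h1 h.2 j (by simp only [List.length_cons] at hj; omega)

end Cert

end Cfsg.Agent.Lib.Coset
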