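import Cfsg.Agent.Lib.Coset.Check

/-! # The cosets described by a complete certificate cover the group -/

set_option autoImplicit false

namespace Cfsg.Agent.Lib.Coset

/-- A coset table: one packed column for each generator. -/
structure Tab where
  /-- The number of cosets. -/
  size : ℕ
  /-- The number of generators. -/
  gens : ℕ
  /-- The columns, in blocks of 64 fields of 20 bits. -/
  cols : List Store

/-- The image of a coset. -/
noncomputable def Tab.act (P : Tab) (g i : ℕ) : ℕ :=
  field ((List.rec (motive := fun _ => ℕ → Store) (fun _ => .leaf 0)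
    (fun a _ ih k => Bool.rec (ih (Nat.sub k 1)) a (Nat.beq k 0)) P.cols g).get (Nat.div i 64)) 20
    (Nat.mod i 64)

/-- The node of a coset. -/
noncomputable def nodeOf (ord : Store) (i : ℕ) : ℕ := field (ord.get (Nat.div i 64)) 20 (Nat.mod i 64)

namespace Cert

variable (C : Cert)

/-- Checks the edge `g` from coset `i` against its packed path of facts. -/
noncomputable def edgeOK (P : Tab) (ord : Store) (i g : ℕ) (pr : ℕ) : Bool :=
  P.act g i < P.size &&
    match C.walk C.nfacts (nodeOf ord i) (decode 4000 pr) with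
    | none => false
    | some (x, u) => x == nodeOf ord (P.act g i) && u == [g]

/-- Checks a block of packed paths; edge number `e` is `(e / gens, e % gens)`. -/
noncomputable def edgesOK (P : Tab) (ord : Store) : ℕ → List ℕ → Bool
  | _, [] => true
  | e, p :: ps => C.edgeOK P ord (e / P.gens) (e % P.gens) p && edgesOK P ord (e + 1) ps

variable {C} {Γ : Type*} [Group Γ] {φ : ℕ → Γ} {K : Subgroup Γ}

/-- An edge of the table is a valid equation of cosets. -/
def EdgeHolds (C : Cert) (φ : ℕ → Γ) (K : Subgroup Γ) (P : Tab) (ord : Store) (i g : ℕ) : Prop :=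
  P.act g i < P.size ∧
    C.pt φ (nodeOf ord i) * φ g * (C.pt φ (nodeOf ord (P.act g i)))⁻¹ ∈ K

theorem edgesOK_spec (M : Model C φ K) (hh : ∀ j < C.nfacts, C.Holds φ K j) {P : Tab} {ord : Store} :
    ∀ {ps : List ℕ} {start : ℕ}, C.edgesOK P ord start ps = true →
    ∀ e, start ≤ e → e < start + ps.length → C.EdgeHolds φ K P ord (e / P.gens) (e % P.gens)
  | [], start, _, e, h1, h2 => by simp at h2; omega
  | p :: ps, start, h, e, h1, h2 => by
    rw [edgesOK, Bool.and_eq_true] at h
    rcases eq_or_lt_of_le h1 with rfl | h1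
    · have h' := h.1
      simp only [edgeOK, Bool.and_eq_true, decide_eq_true_eq] at h'
      refine ⟨h'.1, ?_⟩
      cases hw : C.walk C.nfacts (nodeOf ord (start / P.gens)) (decode 4000 p) with
      | none => rw [hw] at h'; simp at h'
      | some q =>
        obtain ⟨x, u⟩ := q
        rw [hw] at h'
        simp only [Bool.and_eq_true, beq_iff_eq] at h'
        have := walk_spec M.inv hh hw
        rw [h'.2.1, h'.2.2, ev_cons, ev_nil, mul_one] at this
        exact this
    · exact edgesOK_spec M hh h.2 e h1 (by simp only [List.length_cons] at h2; omega)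

/-- A complete table covers the group generated by the generators. -/
theorem cover (hinv : ∀ g < C.gens, φ g * φ g = 1) {P : Tab} (hgens : P.gens = C.gens) {ord : Store}
    (h0 : nodeOf ord 0 = 0) (hn : 0 < P.size)
    (he : ∀ e < P.size * P.gens, C.EdgeHolds φ K P ord (e / P.gens) (e % P.gens)) :
    ∀ x ∈ Subgroup.closure (φ '' Set.Iio C.gens),
      ∃ i < P.size, x * (C.pt φ (nodeOf ord i))⁻¹ ∈ K := by
  have hedge : ∀ i < P.size, ∀ g < C.gens, C.EdgeHolds φ K P ord i g := by
    intro i hi g hg
    rw [← hgens] at hg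
    have := he (g + P.gens * i) (by nlinarith)
    rwa [Nat.add_mul_div_left _ _ (by omega), Nat.div_eq_of_lt hg, zero_add,
      Nat.add_mul_mod_self_left, Nat.mod_eq_of_lt hg] at this
  have step : ∀ x : Γ, (∃ i < P.size, x * (C.pt φ (nodeOf ord i))⁻¹ ∈ K) → ∀ g < C.gens,
      ∃ i < P.size, x * φ g * (C.pt φ (nodeOf ord i))⁻¹ ∈ K := by
    rintro x ⟨i, hi, hx⟩ g hg
    obtain ⟨hlt, h⟩ := hedge i hi g hg
    refine ⟨_, hlt, ?_⟩
    have := K.mul_mem hx h
    convert this using 1
    group
  intro x hx
  induction hx using Subgroup.closure_induction_right with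
  | one => exact ⟨0, hn, by rw [h0, C.pt_zero]; simp⟩
  | mul_right x _ y hy ih =>
    obtain ⟨g, hg, rfl⟩ := hy
    exact step x ih g hg
  | mul_inv_cancel x _ y hy ih =>
    obtain ⟨g, hg, rfl⟩ := hy
    rw [inv_eq_of_mul_eq_one_right (hinv g hg)]
    exact step x ih g hg

end Cert

/-- A subgroup covered by finitely many cosets of a finite one is finite, with the obvious bound. -/
theorem card_le_of_cover {Γ : Type*} [Group Γ] {K L : Subgroup Γ} {n : ℕ} {p : ℕ → Γ}
    (hK : (K : Set Γ).Finite) (h : ∀ x ∈ L, ∃ i < n, x * (p i)⁻¹ ∈ K) :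
    (L : Set Γ).Finite ∧ Nat.card L ≤ n * Nat.card K := by
  have hsub : (L : Set Γ) ⊆ (fun q : ℕ × Γ => q.2 * p q.1) '' (Set.Iio n ×ˢ (K : Set Γ)) := by
    intro x hx
    obtain ⟨i, hi, hk⟩ := h x hx
    exact ⟨(i, x * (p i)⁻¹), ⟨hi, hk⟩, by simp⟩
  have hfin := (Set.finite_Iio n).prod hK
  refine ⟨(hfin.image _).subset hsub, ?_⟩
  calc Nat.card L = (L : Set Γ).ncard := Nat.card_coe_set_eq _
    _ ≤ _ := Set.ncard_le_ncard hsub (hfin.image _)
    _ ≤ (Set.Iio n ×ˢ (K : Set Γ)).ncard := Set.ncard_image_le hfin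
    _ = n * Nat.card K := by
      rw [Set.ncard_prod, Set.ncard_Iio_nat]
      exact congrArg _ (Nat.card_coe_set_eq _).symm

end Cfsg.Agent.Lib.Coset
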