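import Cfsg.Agent.Lib.Coset.Group
import Cfsg.Prelude.Def_SporCoxeter

/-! # Groups presented on a labelled graph of involutions, read as groups with numbered generators -/

set_option autoImplicit false

namespace Cfsg.Agent.Lib.Coset

open Cfsg.Spor

/-- The Coxeter words in numbered letters. -/
def coxWords {α : Type*} [DecidableEq α] (gl : List α) (d : α) (edges : List (α × ℕ × α)) :
    List (List ℕ) :=
  (List.range gl.length).flatMap fun i => (List.range gl.length).map fun j =>
    rep (coxLabel edges (gl.getD i d) (gl.getD j d)) [i, j]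

/-- A reading of a presentation on a labelled graph in numbered letters. -/
structure Pres (α : Type) [DecidableEq α] (edges : List (α × ℕ × α)) (extra : List (FreeGroup α)) where
  /-- The generators in order. -/
  gl : List α
  /-- A default generator. -/
  dflt : α
  /-- The further relators as words. -/
  words : List (List ℕ)
  mem : ∀ a : α, a ∈ gl
  nodes : ∀ a : α, a ∈ coxNodes edges
  lift : ∀ {Δ : Type} [Group Δ] (f : α → Δ), (∀ a, f a * f a = 1) →
    extra.map (FreeGroup.lift f) = words.map (ev fun k => f (gl.getD k dflt))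

namespace Pres

variable {α : Type} [DecidableEq α] {edges : List (α × ℕ × α)} {extra : List (FreeGroup α)}
  (S : Pres α edges extra)

/-- The generators, numbered. -/
def φ (k : ℕ) : CoxPresented α edges extra := PresentedGroup.of (S.gl.getD k S.dflt)

/-- All relators in numbered letters, with the empty word. -/
def base : List (List ℕ) := [] :: (coxWords S.gl S.dflt edges ++ S.words)

include S in
theorem of_inv (a : α) :
    (PresentedGroup.of a : CoxPresented α edges extra) * PresentedGroup.of a = 1 := by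
  have h := PresentedGroup.one_of_mem (rels := coxRelators edges ∪ {r | r ∈ extra})
    (x := (FreeGroup.of a * FreeGroup.of a) ^ coxLabel edges a a)
    (Or.inl ⟨a, S.nodes a, a, S.nodes a, rfl⟩)
  rw [show coxLabel edges a a = 1 from if_pos rfl, pow_one, map_mul] at h
  exact h

theorem φ_inv (k : ℕ) : S.φ k * S.φ k = 1 := S.of_inv _

theorem base_eq_one : ∀ w ∈ S.base, ev S.φ w = 1 := by
  intro w hw
  simp only [base, List.mem_cons, List.mem_append] at hw
  rcases hw with rfl | hw | hw
  · rfl
  · simp only [coxWords, List.mem_flatMap, List.mem_map, List.mem_range] at hw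
    obtain ⟨i, -, j, -, rfl⟩ := hw
    have h := PresentedGroup.one_of_mem (rels := coxRelators edges ∪ {r | r ∈ extra})
      (x := (FreeGroup.of (S.gl.getD i S.dflt) * FreeGroup.of (S.gl.getD j S.dflt)) ^
        coxLabel edges (S.gl.getD i S.dflt) (S.gl.getD j S.dflt))
      (Or.inl ⟨_, S.nodes _, _, S.nodes _, rfl⟩)
    rw [map_pow, map_mul] at h
    rw [ev_rep, ev_cons, ev_cons, ev_nil, mul_one]
    exact h
  · have h := S.lift (fun a => (PresentedGroup.of a : CoxPresented α edges extra)) S.of_inv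
    have hw' : ev S.φ w ∈ S.words.map (ev fun k => (PresentedGroup.of (S.gl.getD k S.dflt) :
        CoxPresented α edges extra)) := List.mem_map.2 ⟨w, hw, rfl⟩
    rw [← h, List.mem_map] at hw'
    obtain ⟨r, hr, he⟩ := hw'
    rw [← he]
    have h1 := PresentedGroup.one_of_mem (rels := coxRelators edges ∪ {r | r ∈ extra}) (Or.inr hr)
    rw [show FreeGroup.lift (fun a => (PresentedGroup.of a : CoxPresented α edges extra)) =
      PresentedGroup.mk _ from FreeGroup.ext_hom _ _ fun a => by simp [PresentedGroup.of]]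
    exact h1

theorem gen : Subgroup.closure (S.φ '' Set.Iio S.gl.length) = ⊤ := by
  rw [eq_top_iff, ← PresentedGroup.closure_range_of]
  refine Subgroup.closure_mono ?_
  rintro _ ⟨a, rfl⟩
  obtain ⟨k, hk, rfl⟩ := List.getElem_of_mem (S.mem a)
  exact ⟨k, hk, by rw [φ, List.getD_eq_getElem _ _ hk]⟩

theorem lift_rels {Δ : Type} [Group Δ] (σ : ℕ → Δ) (hσ : ∀ k, σ k * σ k = 1)
    (hrel : ∀ w ∈ S.base, ev σ w = 1) (idx : α → ℕ) (hidx : ∀ a, idx a < S.gl.length)
    (hgl : ∀ a, S.gl.getD (idx a) S.dflt = a) (hinj : ∀ k < S.gl.length, idx (S.gl.getD k S.dflt) = k)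
    (hlet : ∀ w ∈ S.words, ∀ k ∈ w, k < S.gl.length) :
    ∀ r ∈ coxRelators edges ∪ {r | r ∈ extra}, FreeGroup.lift (fun a => σ (idx a)) r = 1 := by
  rintro r (⟨x, -, y, -, rfl⟩ | hr)
  · rw [map_pow, map_mul, FreeGroup.lift_apply_of, FreeGroup.lift_apply_of]
    have h := hrel (rep (coxLabel edges x y) [idx x, idx y]) (by
      refine List.mem_cons_of_mem _ (List.mem_append_left _ ?_)
      simp only [coxWords, List.mem_flatMap, List.mem_map, List.mem_range]
      exact ⟨idx x, hidx x, idx y, hidx y, by rw [hgl, hgl]⟩)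
    rwa [ev_rep, ev_cons, ev_cons, ev_nil, mul_one] at h
  · have h := S.lift (fun a => σ (idx a)) fun a => hσ _
    have hr' : FreeGroup.lift (fun a => σ (idx a)) r ∈
        S.words.map (ev fun k => σ (idx (S.gl.getD k S.dflt))) :=
      h ▸ List.mem_map.2 ⟨r, hr, rfl⟩
    obtain ⟨w, hw, he⟩ := List.mem_map.1 hr'
    rw [← he, ev, List.map_congr_left fun k hk => by rw [hinj k (hlet w hw k hk)], ← ev]
    exact hrel w (List.mem_cons_of_mem _ (List.mem_append_right _ hw))

/-- The action of the group on the points of a table. -/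
noncomputable def toPerm (P : Tab) (hP : P.Good)
    (hrel : ∀ i < P.size, ∀ w ∈ S.base, P.app w i = i)
    (hlt : ∀ w ∈ S.base, ∀ k ∈ w, k < P.gens) (idx : α → ℕ) (hidx : ∀ a, idx a < S.gl.length)
    (hgl : ∀ a, S.gl.getD (idx a) S.dflt = a) (hinj : ∀ k < S.gl.length, idx (S.gl.getD k S.dflt) = k)
    (hlet : ∀ w ∈ S.words, ∀ k ∈ w, k < S.gl.length) :
    CoxPresented α edges extra →* Equiv.Perm (Fin P.size) :=
  PresentedGroup.toGroup (S.lift_rels (P.perm hP) (Tab.perm_mul_self hP)
    (fun w hw => Tab.ev_perm_eq_one hP (hlt w hw) fun i hi => hrel i hi w hw) idx hidx hgl hinj hlet)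

theorem toPerm_φ (P : Tab) (hP : P.Good)
    (hrel : ∀ i < P.size, ∀ w ∈ S.base, P.app w i = i)
    (hlt : ∀ w ∈ S.base, ∀ k ∈ w, k < P.gens) (idx : α → ℕ) (hidx : ∀ a, idx a < S.gl.length)
    (hgl : ∀ a, S.gl.getD (idx a) S.dflt = a) (hinj : ∀ k < S.gl.length, idx (S.gl.getD k S.dflt) = k)
    (hlet : ∀ w ∈ S.words, ∀ k ∈ w, k < S.gl.length) (hgens : P.gens = S.gl.length) :
    ∀ g < P.gens, S.toPerm P hP hrel hlt idx hidx hgl hinj hlet (S.φ g) = P.perm hP g := by
  intro g hg
  rw [toPerm, φ, PresentedGroup.toGroup.of, hinj g (hgens ▸ hg)]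

end Pres

end Cfsg.Agent.Lib.Coset
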