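import Cfsg.Agent.Lib.Coset.Action

/-! # Index, order and normal subgroups from coset certificates -/

set_option autoImplicit false

namespace Cfsg.Agent.Lib.Coset

/-- Each coset other than the first has an edge back to a smaller one. -/
noncomputable def Tab.backOK (P : Tab) : Bool :=
  (List.range P.size).all fun i => i == 0 || (List.range P.gens).any fun g => decide (P.act g i < i)

/-- The hypotheses under which a table describes the cosets of a subgroup. -/
structure Rep (Γ : Type*) [Group Γ] (P : Tab) where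
  /-- The generators. -/
  φ : ℕ → Γ
  /-- The subgroup. -/
  K : Subgroup Γ
  /-- The columns are involutions. -/
  good : P.Good
  /-- The action. -/
  ρ : Γ →* Equiv.Perm (Fin P.size)
  /-- The action of the generators. -/
  ρφ : ∀ g < P.gens, ρ (φ g) = P.perm good g
  /-- The representatives. -/
  p : ℕ → Γ
  pos : 0 < P.size
  gen : Subgroup.closure (φ '' Set.Iio P.gens) = ⊤
  p_zero : p 0 = 1
  edge : ∀ i < P.size, ∀ g < P.gens, p i * φ g * (p (P.act g i))⁻¹ ∈ K
  cover : ∀ x : Γ, ∃ i < P.size, x * (p i)⁻¹ ∈ K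
  back : P.backOK = true
  fix : ∀ k ∈ K, ρ k ⟨0, pos⟩ = ⟨0, pos⟩

namespace Rep

variable {Γ : Type*} [Group Γ] {P : Tab} (R : Rep Γ P)

/-- The first point. -/
def z : Fin P.size := ⟨0, R.pos⟩

theorem rep_apply : ∀ i (hi : i < P.size), R.ρ (R.p i)⁻¹ R.z = ⟨i, hi⟩ := by
  intro i
  induction i using Nat.strong_induction_on with
  | _ i ih =>
    intro hi
    rcases eq_or_ne i 0 with rfl | h0
    · rw [R.p_zero]; simp [z]
    · have hb := R.back
      simp only [Tab.backOK, List.all_eq_true, List.mem_range, Bool.or_eq_true, beq_iff_eq,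
        List.any_eq_true, decide_eq_true_eq] at hb
      obtain ⟨g, hg, hlt⟩ := (hb i hi).resolve_left h0
      have hj := (R.good i hi g hg).1
      have he := R.edge _ hj g hg
      rw [(R.good i hi g hg).2] at he
      have hk := R.fix _ he
      have hx : (R.p i)⁻¹ = (R.φ g)⁻¹ * (R.p (P.act g i))⁻¹ *
          (R.p (P.act g i) * R.φ g * (R.p i)⁻¹) := by group
      rw [hx, map_mul, Equiv.Perm.mul_apply, show R.ρ (R.p (P.act g i) * R.φ g * (R.p i)⁻¹) R.z = R.z
        from hk, map_mul, Equiv.Perm.mul_apply, ih _ hlt hj, map_inv, R.ρφ g hg,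
        inv_eq_of_mul_eq_one_right (Tab.perm_mul_self R.good g), Tab.perm, dif_pos hg]
      exact Fin.ext (R.good i hi g hg).2

theorem mem_iff (x : Γ) : x ∈ R.K ↔ R.ρ x R.z = R.z := by
  refine ⟨R.fix x, fun h => ?_⟩
  obtain ⟨i, hi, hk⟩ := R.cover x⁻¹
  have hx : x = (R.p i)⁻¹ * (x⁻¹ * (R.p i)⁻¹)⁻¹ := by group
  have h1 : R.ρ x R.z = R.ρ (R.p i)⁻¹ R.z := by
    conv_lhs => rw [hx, map_mul, Equiv.Perm.mul_apply,
      show R.ρ (x⁻¹ * (R.p i)⁻¹)⁻¹ R.z = R.z from R.fix _ (R.K.inv_mem hk)]
  have h0 : (⟨i, hi⟩ : Fin P.size) = R.z := (R.rep_apply i hi).symm.trans (h1.symm.trans h)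
  have hi0 : i = 0 := congrArg Fin.val h0
  subst hi0
  rw [R.p_zero, inv_one, mul_one] at hk
  simpa using R.K.inv_mem hk

/-- The cosets are the points. -/
noncomputable def equiv : Γ ⧸ R.K ≃ Fin P.size :=
  Equiv.ofBijective (Quotient.lift (fun x => R.ρ x R.z) fun a b h => by
    have hab : a⁻¹ * b ∈ R.K := QuotientGroup.leftRel_apply.1 h
    show R.ρ a R.z = R.ρ b R.z
    conv_rhs => rw [show b = a * (a⁻¹ * b) by group, map_mul, Equiv.Perm.mul_apply,
      (R.mem_iff _).1 hab]) ⟨by
    intro a b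
    induction a using Quotient.inductionOn with
    | _ a =>
      induction b using Quotient.inductionOn with
      | _ b =>
        intro h
        refine Quotient.sound (QuotientGroup.leftRel_apply.2 ((R.mem_iff _).2 ?_))
        have h' : R.ρ a R.z = R.ρ b R.z := h
        rw [map_mul, map_inv, Equiv.Perm.mul_apply, ← h', Equiv.Perm.inv_def, Equiv.symm_apply_apply],
    fun q => ⟨Quotient.mk _ (R.p q)⁻¹, R.rep_apply q q.2⟩⟩

theorem index_eq : R.K.index = P.size := by
  rw [Subgroup.index, Nat.card_congr R.equiv, Nat.card_fin]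

theorem ncard_orbit (q : Γ ⧸ R.K) : (MulAction.orbit R.K q).ncard =
    (MulAction.orbit (R.K.map R.ρ) (R.equiv q)).ncard := by
  rw [← Set.ncard_image_of_injective _ R.equiv.injective]
  congr 1
  induction q using Quotient.inductionOn with
  | _ a =>
    ext i
    constructor
    · rintro ⟨_, ⟨k, rfl⟩, rfl⟩
      refine ⟨⟨R.ρ k, k, k.2, rfl⟩, ?_⟩
      show R.ρ k (R.ρ a R.z) = R.ρ ((k : Γ) * a) R.z
      rw [map_mul]; rfl
    · rintro ⟨⟨_, k, hk, rfl⟩, rfl⟩
      refine ⟨(⟨k, hk⟩ : R.K) • (QuotientGroup.mk a : Γ ⧸ R.K), MulAction.mem_orbit _ _, ?_⟩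
      show R.ρ (k * a) R.z = R.ρ k (R.ρ a R.z)
      rw [map_mul]; rfl

theorem exists_orbit {b : ℕ} (hb : b < P.size) :
    ∃ q : Γ ⧸ R.K, R.equiv q = ⟨b, hb⟩ := R.equiv.surjective _

/-- A bound from both sides gives the order and faithfulness. -/
theorem order {N : ℕ} (hfin : Finite Γ) (hle : Nat.card Γ ≤ N) (hge : N ≤ Nat.card R.ρ.range) :
    Nat.card Γ = N ∧ Function.Injective R.ρ := by
  have h1 : Nat.card R.ρ.range ≤ Nat.card Γ :=
    Nat.card_le_card_of_surjective R.ρ.rangeRestrict R.ρ.rangeRestrict_surjective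
  refine ⟨le_antisymm hle (hge.trans h1), ?_⟩
  have hb : Function.Bijective R.ρ.rangeRestrict :=
    (Nat.bijective_iff_surjective_and_card _).2 ⟨R.ρ.rangeRestrict_surjective, by omega⟩
  exact (MonoidHom.rangeRestrict_injective_iff).1 hb.injective

theorem transitive (x : Fin P.size) : ∃ g, R.ρ g R.z = x := ⟨_, R.rep_apply x x.2⟩

/-- The orbits of the subgroup cover all points, and no union of them with the first point has size
dividing the degree. -/
noncomputable def _root_.Cfsg.Agent.Lib.Coset.Tab.primOK (P : Tab) (orbs : List (ℕ × List Tab.Step)) : Bool :=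
  ((orbs.map fun o => o.2.length + 1).sum + 1 == P.size) &&
    ((List.range orbs.length).all fun j =>
      let b := (orbs.getD j (0, [])).1
      b != 0 && decide (b < P.size) &&
        (List.range orbs.length).all fun k => k == j || !((Tab.pts (orbs.getD k (0, [])).1
          (orbs.getD k (0, [])).2).contains b)) &&
    (orbs.map fun o => o.2.length + 1).sublists.all fun s =>
      s == [] || s == (orbs.map fun o => o.2.length + 1) || P.size % (s.sum + 1) != 0

theorem sup_eq_top (hinj : Function.Injective R.ρ) {orbs : List (ℕ × List Tab.Step)}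
    (hok : P.primOK orbs = true)
    (horb : ∀ o ∈ orbs, ∀ hb : o.1 < P.size,
      (MulAction.orbit (R.K.map R.ρ) (⟨o.1, hb⟩ : Fin P.size)).ncard = o.2.length + 1 ∧
        ∀ x : Fin P.size, x ∈ MulAction.orbit (R.K.map R.ρ) (⟨o.1, hb⟩ : Fin P.size) ↔
          (x : ℕ) ∈ Tab.pts o.1 o.2)
    (N : Subgroup Γ) [hN : N.Normal] (hne : N ≠ ⊥) : R.K ⊔ N = ⊤ := by
  classical
  simp only [Tab.primOK, Bool.and_eq_true, beq_iff_eq, List.all_eq_true, List.mem_range,
    Bool.or_eq_true, bne_iff_ne, decide_eq_true_eq, Bool.not_eq_true', List.contains_iff_mem,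
    ne_eq] at hok
  obtain ⟨⟨hsum, hsep⟩, hdiv⟩ := hok
  set B : Finset (Fin P.size) :=
    Finset.univ.filter fun x => x ∈ MulAction.orbit (N.map R.ρ) R.z with hB
  have hBmem : ∀ x, x ∈ B ↔ x ∈ MulAction.orbit (N.map R.ρ) R.z := by simp [hB]
  have hz : R.z ∈ B := (hBmem _).2 (MulAction.mem_orbit_self _)
  -- the block is invariant under the subgroup
  have hinv : ∀ k ∈ R.K, ∀ x ∈ B, R.ρ k x ∈ B := by
    intro k hk x hx
    obtain ⟨⟨_, n, hn, rfl⟩, rfl⟩ := (hBmem x).1 hx
    refine (hBmem _).2 ⟨⟨R.ρ (k * n * k⁻¹), _, hN.conj_mem n hn k, rfl⟩, ?_⟩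
    show R.ρ (k * n * k⁻¹) R.z = R.ρ k (R.ρ n R.z)
    rw [map_mul, map_mul, Equiv.Perm.mul_apply, Equiv.Perm.mul_apply,
      (R.mem_iff _).1 (R.K.inv_mem hk)]
  -- counting along the orbits
  have count : ∀ L : List (ℕ × List Tab.Step), L ⊆ orbs → L.Nodup →
      ∃ U : Finset (Fin P.size), U.card = (L.map fun o => o.2.length + 1).sum ∧ R.z ∉ U ∧
        (∀ x : Fin P.size, x ∈ U ↔ ∃ o ∈ L, (x : ℕ) ∈ Tab.pts o.1 o.2) ∧
        ∃ s : List ℕ, List.Sublist s (L.map fun o => o.2.length + 1) ∧ (B ∩ U).card = s.sum := by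
    intro L
    induction L with
    | nil => exact fun _ _ => ⟨∅, by simp, by simp, by simp, [], List.Sublist.slnil, by simp⟩
    | cons o L ih =>
      intro hsub hnd
      rw [List.nodup_cons] at hnd
      obtain ⟨U, hU, hzU, hUm, s, hs, hsB⟩ := ih (fun _ h => hsub (List.mem_cons_of_mem _ h)) hnd.2
      have hmem := hsub (List.mem_cons_self ..)
      obtain ⟨j, hj, hoj⟩ := List.getElem_of_mem hmem
      have hjo : orbs.getD j (0, []) = o := by rw [List.getD_eq_getElem _ _ hj, hoj]
      obtain ⟨⟨hb0, hb⟩, hdis⟩ := hsep j hj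
      rw [hjo] at hb0 hb
      obtain ⟨hcard, hmo⟩ := horb o hmem hb
      set O : Finset (Fin P.size) := Finset.univ.filter fun x =>
        x ∈ MulAction.orbit (R.K.map R.ρ) (⟨o.1, hb⟩ : Fin P.size) with hO
      have hOm : ∀ x, x ∈ O ↔ x ∈ MulAction.orbit (R.K.map R.ρ) (⟨o.1, hb⟩ : Fin P.size) := by
        simp [hO]
      have hOcard : O.card = o.2.length + 1 := by
        rw [← hcard, ← Set.ncard_coe_finset]
        congr 1
        ext x
        simpa using hOm x
      have hzO : R.z ∉ O := fun h => by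
        obtain ⟨⟨_, k, hk, rfl⟩, he⟩ := (hOm _).1 h
        have h1 : R.ρ k ⟨o.1, hb⟩ = R.ρ k R.z := he.trans ((R.mem_iff k).1 hk).symm
        exact hb0 (congrArg Fin.val ((R.ρ k).injective h1))
      have hdisj : Disjoint O U := Finset.disjoint_left.2 fun x hxO hxU => by
        obtain ⟨o', ho', hx'⟩ := (hUm x).1 hxU
        have hmem' := hsub (List.mem_cons_of_mem _ ho')
        obtain ⟨k, hk, hok'⟩ := List.getElem_of_mem hmem'
        have hko : orbs.getD k (0, []) = o' := by rw [List.getD_eq_getElem _ _ hk, hok']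
        have hb' := (hsep k hk).1.2
        rw [hko] at hb'
        have hd := hdis k hk
        rw [hko, hjo] at hd
        rcases hd with rfl | hd
        · exact hnd.1 (by rwa [← hjo, hko])
        · have h1 := (hOm x).1 hxO
          have h2 := ((horb o' hmem' hb').2 x).2 hx'
          have h3 := ((horb o' hmem' hb').2 ⟨o.1, hb⟩).1 (by
            rw [← MulAction.orbit_eq_iff.2 h2, MulAction.orbit_eq_iff.2 h1]
            exact MulAction.mem_orbit_self _)
          exact (by simpa using hd : ¬ _) h3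
      refine ⟨O ∪ U, by rw [Finset.card_union_of_disjoint hdisj, hOcard, hU, List.map_cons,
        List.sum_cons], by simp [hzO, hzU], fun x => ?_, ?_⟩
      · simp only [Finset.mem_union, hUm, List.mem_cons, exists_eq_or_imp, hOm, hmo x]
      · by_cases hcase : ∃ x ∈ O, x ∈ B
        · obtain ⟨x, hxO, hxB⟩ := hcase
          refine ⟨(o.2.length + 1) :: s, by rw [List.map_cons]; exact hs.cons_cons _, ?_⟩
          have hOB : O ⊆ B := fun y hy => by
            have h1 : y ∈ MulAction.orbit (R.K.map R.ρ) x := by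
              rw [MulAction.orbit_eq_iff.2 ((hOm x).1 hxO)]; exact (hOm y).1 hy
            obtain ⟨⟨_, k, hk, rfl⟩, rfl⟩ := h1
            exact hinv k hk x hxB
          rw [Finset.inter_union_distrib_left, Finset.card_union_of_disjoint
            (hdisj.mono Finset.inter_subset_right Finset.inter_subset_right),
            Finset.inter_eq_right.2 hOB, hOcard, hsB, List.sum_cons]
        · refine ⟨s, by rw [List.map_cons]; exact hs.cons _, ?_⟩
          have : B ∩ O = ∅ := Finset.eq_empty_of_forall_notMem fun x hx =>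
            hcase ⟨x, (Finset.mem_inter.1 hx).2, (Finset.mem_inter.1 hx).1⟩
          rw [Finset.inter_union_distrib_left, this, Finset.empty_union, hsB]
  have hnd : orbs.Nodup := by
    rw [List.nodup_iff_injective_get]
    intro j k hjk
    by_contra hne'
    have h := (hsep j j.2).2 k k.2
    have hj' : orbs.getD j (0, []) = orbs.get j := List.getD_eq_getElem _ _ j.2
    have hk' : orbs.getD k (0, []) = orbs.get k := List.getD_eq_getElem _ _ k.2
    rw [hj', hk', ← hjk] at h
    rcases h with h | h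
    · exact hne' (Fin.ext h.symm)
    · simp [Tab.pts] at h
  obtain ⟨U, hU, hzU, -, s, hs, hsB⟩ := count orbs (List.Subset.refl _) hnd
  have huniv : insert R.z U = Finset.univ := by
    apply Finset.eq_univ_of_card
    rw [Finset.card_insert_of_notMem hzU, hU, Fintype.card_fin, hsum]
  have hBcard : B.card = s.sum + 1 := by
    have hBu : B = insert R.z (B ∩ U) := by
      ext x
      have hx : x ∈ insert R.z U := huniv ▸ Finset.mem_univ x
      simp only [Finset.mem_insert, Finset.mem_inter] at hx ⊢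
      exact ⟨fun h => hx.imp_right fun h' => ⟨h, h'⟩, fun h => h.elim (fun e => e ▸ hz) And.left⟩
    rw [hBu, Finset.card_insert_of_notMem (fun h => hzU (Finset.mem_inter.1 h).2), hsB]
  -- the size of the block is an index
  have hrel : B.card = R.K.relIndex (N ⊔ R.K) := by
    have e : Nat.card (MulAction.orbit ((N ⊔ R.K).map R.ρ) R.z) =
        (MulAction.stabilizer ((N ⊔ R.K).map R.ρ) R.z).index :=
      Nat.card_congr (MulAction.orbitEquivQuotientStabilizer _ _)
    have hcomap : MulAction.stabilizer ((N ⊔ R.K).map R.ρ) R.z =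
        (R.K.map R.ρ).subgroupOf ((N ⊔ R.K).map R.ρ) := by
      ext ⟨u, n, hn, rfl⟩
      show R.ρ n R.z = R.z ↔ R.ρ n ∈ R.K.map R.ρ
      rw [← R.mem_iff, Subgroup.mem_map]
      exact ⟨fun h => ⟨n, h, rfl⟩, fun ⟨k, hk, he⟩ => hinj he ▸ hk⟩
    rw [hcomap] at e
    have e2 : ((R.K.map R.ρ).subgroupOf ((N ⊔ R.K).map R.ρ)).index = R.K.relIndex (N ⊔ R.K) :=
      Subgroup.relIndex_map_map_of_injective R.K (N ⊔ R.K) hinj
    rw [← e2, ← e, Nat.card_coe_set_eq, ← Set.ncard_coe_finset]
    congr 1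
    ext x
    rw [Finset.mem_coe, hBmem]
    constructor
    · rintro ⟨⟨_, n, hn, rfl⟩, rfl⟩
      exact ⟨⟨R.ρ n, n, Subgroup.mem_sup_left hn, rfl⟩, rfl⟩
    · rintro ⟨⟨_, g, hg, rfl⟩, rfl⟩
      obtain ⟨n, hn, k, hk, rfl⟩ := Subgroup.mem_sup_of_normal_left.1 hg
      refine ⟨⟨R.ρ n, n, hn, rfl⟩, ?_⟩
      show R.ρ n R.z = R.ρ (n * k) R.z
      rw [map_mul, Equiv.Perm.mul_apply, (R.mem_iff k).1 hk]
  have hmul : R.K.relIndex (N ⊔ R.K) * (R.K ⊔ N).index = R.K.index := by
    rw [sup_comm R.K N]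
    exact Subgroup.relIndex_mul_index le_sup_right
  rw [← Subgroup.index_eq_one]
  rcases hdiv s (List.mem_sublists.2 hs) with (h | h) | h
  · -- the block is a point
    refine absurd ((Subgroup.eq_bot_iff_forall N).2 fun n hn => hinj ?_) hne
    rw [map_one]
    refine Equiv.ext fun x => ?_
    obtain ⟨g, rfl⟩ := R.transitive x
    have hfix : ∀ m ∈ N, R.ρ m R.z = R.z := fun m hm => by
      have hmB : R.ρ m R.z ∈ B := (hBmem _).2 ⟨⟨R.ρ m, m, hm, rfl⟩, rfl⟩
      rw [h] at hBcard
      exact Finset.card_le_one.1 (by simpa using hBcard.le) _ hmB _ hz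
    have h2 := hfix (g⁻¹ * n * g) (by simpa using hN.conj_mem n hn g⁻¹)
    rw [Equiv.Perm.one_apply, ← Equiv.Perm.mul_apply, ← map_mul,
      show n * g = g * (g⁻¹ * n * g) by group, map_mul, Equiv.Perm.mul_apply, h2]
  · rw [hrel] at hBcard
    rw [h, hsum, R.index_eq.symm] at hBcard
    rw [hBcard] at hmul
    have := R.index_eq
    have := R.pos
    exact (Nat.mul_eq_left (by omega)).1 hmul
  · rw [← hBcard, hrel] at h
    refine absurd ?_ h
    rw [← R.index_eq, ← hmul]
    exact Nat.mul_mod_right _ _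

/-- An element whose order is prime to the order of the subgroup lies in every normal supplement. -/
theorem mem_of_coprime {N : Subgroup Γ} [hN : N.Normal] (hsup : R.K ⊔ N = ⊤) {x : Γ} {p : ℕ}
    (hx : x ^ p = 1) (hp : Nat.Coprime p (Nat.card R.K)) : x ∈ N := by
  have hsurj : Function.Surjective ((QuotientGroup.mk' N).comp R.K.subtype) := fun q => by
    obtain ⟨g, rfl⟩ := QuotientGroup.mk'_surjective N q
    obtain ⟨k, hk, n, hn, rfl⟩ := Subgroup.mem_sup_of_normal_right.1
      (show g ∈ R.K ⊔ N by rw [hsup]; trivial)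
    exact ⟨⟨k, hk⟩, by simp [map_mul, (QuotientGroup.eq_one_iff _).2 hn]⟩
  have hdvd : Nat.card (Γ ⧸ N) ∣ Nat.card R.K := Subgroup.card_dvd_of_surjective _ hsurj
  have h1 : orderOf (QuotientGroup.mk' N x) ∣ p :=
    orderOf_dvd_of_pow_eq_one (by rw [← map_pow, hx, map_one])
  have h2 : orderOf (QuotientGroup.mk' N x) ∣ Nat.card R.K := (orderOf_dvd_natCard _).trans hdvd
  exact (QuotientGroup.eq_one_iff x).1
    (orderOf_eq_one_iff.1 (Nat.eq_one_of_dvd_coprimes hp h1 h2))

end Rep

/-- In a group where `(s * t) ^ m = 1` for an odd `m`, a normal subgroup containing the involution `s`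
contains the involution `t`. -/
theorem mem_of_odd {Γ : Type*} [Group Γ] {N : Subgroup Γ} [N.Normal] {s t : Γ} {m : ℕ}
    (ht : t * t = 1) (hm : Odd m) (h : (s * t) ^ m = 1) (hs : s ∈ N) : t ∈ N := by
  have h1 := congrArg (QuotientGroup.mk' N) h
  obtain ⟨k, rfl⟩ := hm
  have h0 : QuotientGroup.mk' N s = 1 := (QuotientGroup.eq_one_iff s).2 hs
  rw [map_pow, map_mul, h0, one_mul, map_one, pow_succ, pow_mul, ← map_pow, pow_two, ht, map_one,
    one_pow, one_mul] at h1
  exact (QuotientGroup.eq_one_iff t).1 h1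

end Cfsg.Agent.Lib.Coset
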