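import Cfsg.Agent.Lib.Coset.Build

/-! # Chains of subgroups generated by some of the letters -/

set_option autoImplicit false

namespace Cfsg.Agent.Lib.Coset

variable {Γ : Type} [Group Γ] (φ : ℕ → Γ)

/-- The subgroup generated by some letters. -/
def letSub (L : List ℕ) : Subgroup Γ := Subgroup.closure (φ '' {k | k ∈ L})

/-- The generators selected by a list of letters. -/
def pickGen (L : List ℕ) (k : ℕ) : Γ := φ (L.getD k 0)

theorem ev_pickGen (L w : List ℕ) : ev (pickGen φ L) w = ev φ (w.map fun k => L.getD k 0) := by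
  rw [ev, ev, List.map_map]; rfl

theorem closure_pickGen (L : List ℕ) :
    Subgroup.closure (pickGen φ L '' Set.Iio L.length) = letSub φ L := by
  refine congrArg Subgroup.closure ?_
  ext x
  simp only [Set.mem_image, Set.mem_Iio]
  constructor
  · rintro ⟨k, hk, rfl⟩
    exact ⟨L[k], List.getElem_mem hk, by rw [pickGen, List.getD_eq_getElem _ _ hk]⟩
  · rintro ⟨a, ha, rfl⟩
    obtain ⟨k, hk, rfl⟩ := List.getElem_of_mem ha
    exact ⟨k, hk, by rw [pickGen, List.getD_eq_getElem _ _ hk]⟩

theorem letSub_nil : letSub φ [] = ⊥ := by simp [letSub]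

theorem card_letSub_nil :
    (letSub φ [] : Set Γ).Finite ∧ Nat.card (letSub φ []) ≤ 1 := by
  rw [letSub_nil]; exact ⟨by simp, by simp⟩

variable {φ}

theorem model_letters (hφ : ∀ k, φ k * φ k = 1) {base : List (List ℕ)}
    (hb : ∀ w ∈ base, ev φ w = 1) {C : Cert} {L L' : List ℕ}
    (hr : (C.rels.all fun r => isRot base (r.map fun k => L.getD k 0)) = true)
    (hs : (C.subs.all fun w => w.all fun a => L'.contains (L.getD a 0)) = true) :
    Cert.Model C (pickGen φ L) (letSub φ L') := by
  refine ⟨fun g _ => hφ _, fun r hr' => ?_, fun s hs' => ?_⟩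
  · rw [ev_pickGen]
    exact ev_rot hb (List.all_eq_true.1 hr r hr')
  · simp only [List.all_eq_true, List.contains_iff_mem] at hs
    exact ev_mem_closure _ fun a ha => Subgroup.subset_closure ⟨_, hs s hs' a ha, rfl⟩

theorem letters_step {L L' : List ℕ} {G n M : ℕ} {p : ℕ → Γ} (hG : L.length = G)
    (hK : (letSub φ L' : Set Γ).Finite ∧ Nat.card (letSub φ L') ≤ M)
    (h : ∀ x ∈ Subgroup.closure (pickGen φ L '' Set.Iio G),
      ∃ i < n, x * (p i)⁻¹ ∈ letSub φ L') :
    (letSub φ L : Set Γ).Finite ∧ Nat.card (letSub φ L) ≤ n * M := by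
  subst hG
  rw [closure_pickGen] at h
  exact ⟨(card_le_of_cover hK.1 h).1, (card_le_of_cover hK.1 h).2.trans (Nat.mul_le_mul le_rfl hK.2)⟩

theorem ev_mem_letSub {L : List ℕ} {w : List ℕ} (h : w.all (fun a => L.contains a) = true) :
    ev φ w ∈ letSub φ L := by
  simp only [List.all_eq_true, List.contains_iff_mem] at h
  exact ev_mem_closure φ fun a ha => Subgroup.subset_closure ⟨a, h a ha, rfl⟩

end Cfsg.Agent.Lib.Coset
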