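import Cfsg.Agent.Lib.Coset.Build

/-! # Membership read off a path in a table, and extensions of degree two -/

set_option autoImplicit false

namespace Cfsg.Agent.Lib.Coset

theorem Tab.app_append (P : Tab) : ∀ (u v : List ℕ) (i : ℕ), P.app (u ++ v) i = P.app u (P.app v i)
  | [], _, _ => rfl
  | g :: u, v, i => by
    show P.act g (P.app (u ++ v) i) = P.act g (P.app u (P.app v i))
    rw [Tab.app_append P u v i]

variable {Γ : Type*} [Group Γ] {φ : ℕ → Γ} {K : Subgroup Γ}

/-- A word whose path in the table returns to the first coset lies in the subgroup. -/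
theorem mem_of_path {C : Cert} {P : Tab} {ord : Store} (h0 : nodeOf ord 0 = 0) (hn : 0 < P.size)
    (he : ∀ e < P.size * P.gens, C.EdgeHolds φ K P ord (e / P.gens) (e % P.gens))
    {w : List ℕ} (hw : w.all (· < P.gens) = true) (hpath : P.app w.reverse 0 = 0) :
    ev φ w ∈ K := by
  have key : ∀ (w : List ℕ), (∀ g ∈ w, g < P.gens) → ∀ i < P.size,
      C.pt φ (nodeOf ord i) * ev φ w * (C.pt φ (nodeOf ord (P.app w.reverse i)))⁻¹ ∈ K := by
    intro w
    induction w with
    | nil => intro _ i _; simp [ev_nil, Tab.app]
    | cons g w ih =>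
      intro hlt i hi
      have hg := hlt g (by simp)
      have h := he (g + P.gens * i) (by nlinarith)
      rw [Nat.add_mul_div_left _ _ (by omega), Nat.div_eq_of_lt hg, zero_add,
        Nat.add_mul_mod_self_left, Nat.mod_eq_of_lt hg] at h
      obtain ⟨hi', hk⟩ := h
      have h2 := K.mul_mem hk (ih (fun a ha => hlt a (List.mem_cons_of_mem _ ha)) _ hi')
      rw [List.reverse_cons, Tab.app_append, ev_cons]
      show _ * _ * (C.pt φ (nodeOf ord (P.app w.reverse (P.act g i))))⁻¹ ∈ K
      convert h2 using 1
      group
  have := key w (by simpa using hw) 0 hn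
  rw [hpath, h0, C.pt_zero] at this
  simpa using this

/-- Adjoining an element that normalises a finite subgroup and squares into it at most doubles it. -/
theorem card_le_double {S : Set Γ} {u : Γ} (hS : ∀ s ∈ S, s * s = 1) (hu : u * u = 1)
    (hK : (Subgroup.closure S : Set Γ).Finite)
    (hnorm : ∀ s ∈ S, u * s * u ∈ Subgroup.closure S) :
    (Subgroup.closure (insert u S) : Set Γ).Finite ∧
      Nat.card (Subgroup.closure (insert u S)) ≤ 2 * Nat.card (Subgroup.closure S) := by
  have hinv : u⁻¹ = u := inv_eq_of_mul_eq_one_right hu
  refine card_le_of_cover (p := fun i => if i = 0 then 1 else u) hK fun x hx => ?_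
  suffices x ∈ Subgroup.closure S ∨ x * u ∈ Subgroup.closure S by
    rcases this with h | h
    · exact ⟨0, by omega, by simpa using h⟩
    · exact ⟨1, by omega, by simpa [hinv] using h⟩
  have step : ∀ x, (x ∈ Subgroup.closure S ∨ x * u ∈ Subgroup.closure S) → ∀ y ∈ insert u S,
      (x * y ∈ Subgroup.closure S ∨ x * y * u ∈ Subgroup.closure S) := by
    intro x hx y hy
    rcases Set.mem_insert_iff.1 hy with rfl | hy
    · rcases hx with h | h
      · exact Or.inr (by simpa [mul_assoc, hu] using h)
      · exact Or.inl h
    · rcases hx with h | h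
      · exact Or.inl (mul_mem h (Subgroup.subset_closure hy))
      · refine Or.inr ?_
        have := mul_mem h (hnorm y hy)
        convert this using 1
        rw [show x * u * (u * y * u) = x * (u * u) * y * u by simp only [mul_assoc], hu, mul_one]
  induction hx using Subgroup.closure_induction_right with
  | one => exact Or.inl (one_mem _)
  | mul_right x _ y hy ih => exact step x ih y hy
  | mul_inv_cancel x _ y hy ih =>
    have : y⁻¹ = y := by
      rcases Set.mem_insert_iff.1 hy with rfl | h
      · exact hinv
      · exact inv_eq_of_mul_eq_one_right (hS y h)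
    rw [this]
    exact step x ih y hy

/-- An element of a finite subgroup that acts trivially is trivial, if the image is large enough. -/
theorem eq_one_of_card {Δ : Type*} [Group Δ] (f : Γ →* Δ) (hfin : (K : Set Γ).Finite)
    (hle : Nat.card K ≤ Nat.card (K.map f)) {x : Γ} (hx : x ∈ K) (h1 : f x = 1) : x = 1 := by
  have : Finite K := hfin.to_subtype
  have hs : Function.Surjective (f.subgroupMap K) := f.subgroupMap_surjective K
  have hb : Function.Bijective (f.subgroupMap K) :=
    (Nat.bijective_iff_surjective_and_card _).2 ⟨hs,
      le_antisymm hle (Nat.card_le_card_of_surjective _ hs)⟩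
  have := hb.injective (a₁ := (⟨x, hx⟩ : K)) (a₂ := 1) (Subtype.ext (by simpa using h1))
  simpa using congrArg Subtype.val this

end Cfsg.Agent.Lib.Coset
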