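import Mathlib

/-! # Words in generators and packed tables for coset certificates -/

set_option autoImplicit false

namespace Cfsg.Agent.Lib.Coset

variable {Γ : Type*} [Group Γ]

/-- A word evaluated in a group. -/
def ev (φ : ℕ → Γ) (w : List ℕ) : Γ := (w.map φ).prod

theorem ev_nil (φ : ℕ → Γ) : ev φ [] = 1 := rfl

theorem ev_cons (φ : ℕ → Γ) (a : ℕ) (w : List ℕ) : ev φ (a :: w) = φ a * ev φ w := by
  simp [ev]

theorem ev_append (φ : ℕ → Γ) (u v : List ℕ) : ev φ (u ++ v) = ev φ u * ev φ v := by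
  simp [ev]

theorem ev_comp {Δ : Type*} [Group Δ] (f : Γ →* Δ) (φ : ℕ → Γ) (w : List ℕ) :
    f (ev φ w) = ev (f ∘ φ) w := by
  simp [ev, map_list_prod, List.map_map]

/-- A power of a word. -/
def rep : ℕ → List ℕ → List ℕ
  | 0, _ => []
  | m + 1, w => rep m w ++ w

theorem ev_rep (φ : ℕ → Γ) : ∀ (m : ℕ) (w : List ℕ), ev φ (rep m w) = ev φ w ^ m
  | 0, w => by simp [rep, ev_nil]
  | m + 1, w => by rw [rep, ev_append, ev_rep φ m w, pow_succ]

theorem ev_reverse (φ : ℕ → Γ) : ∀ w : List ℕ, (∀ a ∈ w, φ a * φ a = 1) →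
    ev φ w.reverse = (ev φ w)⁻¹
  | [], _ => by simp [ev_nil]
  | a :: w, h => by
    rw [List.reverse_cons, ev_append, ev_reverse φ w fun b hb => h b (List.mem_cons_of_mem _ hb),
      ev_cons, ev_cons, ev_nil, mul_one, mul_inv_rev]
    rw [inv_eq_of_mul_eq_one_right (h a (by simp))]

theorem ev_mem_closure (φ : ℕ → Γ) {S : Set Γ} {w : List ℕ}
    (h : ∀ a ∈ w, φ a ∈ Subgroup.closure S) : ev φ w ∈ Subgroup.closure S :=
  Subgroup.list_prod_mem _ fun x hx => by
    obtain ⟨a, ha, rfl⟩ := List.mem_map.1 hx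
    exact h a ha

/-- `u` is a cyclic rotation of some word of the list. -/
def isRot (base : List (List ℕ)) (u : List ℕ) : Bool :=
  base.any fun b => (List.range (b.length + 1)).any fun k => b.drop k ++ b.take k == u

theorem ev_rot {φ : ℕ → Γ} {base : List (List ℕ)} (hb : ∀ b ∈ base, ev φ b = 1) {u : List ℕ}
    (h : isRot base u = true) : ev φ u = 1 := by
  simp only [isRot, List.any_eq_true, beq_iff_eq] at h
  obtain ⟨b, hmem, k, -, rfl⟩ := h
  have h1 : ev φ (b.take k) * ev φ (b.drop k) = 1 := by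
    rw [← ev_append, List.take_append_drop, hb b hmem]
  rw [ev_append]
  exact mul_eq_one_comm.1 h1

/-- A binary tree of packed words, read by the bits of the index. -/
inductive Store
  | leaf (v : ℕ)
  | node (l r : Store)

/-- The packed word stored at an index; written with the recursor, for kernel evaluation. -/
noncomputable def Store.get (s : Store) : ℕ → ℕ :=
  Store.rec (motive := fun _ => ℕ → ℕ) (fun v _ => v)
    (fun _ _ gl gr i => Bool.rec (gl (Nat.div i 2)) (gr (Nat.div i 2)) (Nat.beq (Nat.mod i 2) 1)) s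

/-- Field `i` of width `w` in a packed word. -/
def field (X w i : ℕ) : ℕ := Nat.mod (Nat.shiftRight X (Nat.mul w i)) (Nat.pow 2 w)

end Cfsg.Agent.Lib.Coset
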